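/-
Fixed spaces of subgroups and the vectors attached to a commutator pairing.
-/
import Cfsg.Agent.Lib.PLocal.TrialityDegree

set_option autoImplicit false
set_option linter.unusedSectionVars false

namespace CfsgLib.PLocal.RadTw

open Module CfsgLib.PLocal.Triality

variable {G : Type*} [Group G] [Finite G]
variable {V : Type*} [AddCommGroup V] [Module ℂ V] [FiniteDimensional ℂ V] (ρ : Representation ℂ G V)

theorem app (g h : G) (v : V) : ρ (g * h) v = ρ g (ρ h v) := by rw [map_mul]; rfl

theorem app_inj (g : G) {v w : V} (h : ρ g v = ρ g w) : v = w := by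
  have := congrArg (ρ g⁻¹) h
  rwa [← app, ← app, inv_mul_cancel, map_one] at this

theorem app_ne_zero (g : G) {v : V} (hv : v ≠ 0) : ρ g v ≠ 0 := fun h =>
  hv (app_inj ρ g (h.trans (map_zero _).symm))

/-- every element of the subgroup fixes `v` -/
def FixV (N : Subgroup G) (v : V) : Prop := ∀ g ∈ N, ρ g v = v

theorem FixV.mono {N M : Subgroup G} (h : M ≤ N) {v : V} (hv : FixV ρ N v) : FixV ρ M v :=
  fun g hg => hv g (h hg)

/-- the projection onto the fixed space of a subgroup -/
noncomputable def fixP (N : Subgroup G) : Module.End ℂ V :=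
  letI := Fintype.ofFinite N
  (Fintype.card N : ℂ)⁻¹ • ∑ n : N, ρ (n : G)

theorem fixP_left (N : Subgroup G) {g : G} (hg : g ∈ N) : ρ g * fixP ρ N = fixP ρ N := by
  let _ := Fintype.ofFinite N
  rw [fixP, mul_smul_comm, Finset.mul_sum]
  congr 1
  exact Fintype.sum_equiv (Equiv.mulLeft (⟨g, hg⟩ : N)) _ _ fun n => (map_mul ρ g n).symm

theorem fixP_apply_iff (N : Subgroup G) (v : V) : fixP ρ N v = v ↔ FixV ρ N v := by
  constructor
  · intro h g hg
    conv_lhs => rw [← h]
    rw [← Module.End.mul_apply, fixP_left ρ N hg, h]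
  · intro h
    let _ := Fintype.ofFinite N
    rw [fixP, LinearMap.smul_apply, LinearMap.sum_apply, Finset.sum_congr rfl fun (n : N) _ => h n n.2,
      Finset.sum_const, Finset.card_univ, ← Nat.cast_smul_eq_nsmul ℂ, smul_smul,
      inv_mul_cancel₀ card_ne_zero', one_smul]

theorem fixP_idem (N : Subgroup G) : fixP ρ N * fixP ρ N = fixP ρ N :=
  LinearMap.ext fun v => (fixP_apply_iff ρ N _).2 fun g hg => by
    rw [← Module.End.mul_apply, fixP_left ρ N hg]

theorem fixP_commute {N : Subgroup G} {g : G} (hg : g ∈ Subgroup.normalizer (N : Set G)) :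
    Commute (ρ g) (fixP ρ N) := by
  let _ := Fintype.ofFinite N
  show ρ g * fixP ρ N = fixP ρ N * ρ g
  rw [fixP, mul_smul_comm, smul_mul_assoc, Finset.mul_sum, Finset.sum_mul]
  congr 1
  let f : N → N := fun n => ⟨g * n * g⁻¹, (Subgroup.mem_normalizer_iff.1 hg n).1 n.2⟩
  have hf : Function.Bijective f := Finite.injective_iff_bijective.1 fun x y h =>
    Subtype.ext (mul_left_cancel (mul_right_cancel (congrArg Subtype.val h)))
  refine Fintype.sum_bijective f hf _ _ fun n => ?_
  show ρ g * ρ (n : G) = ρ (g * n * g⁻¹) * ρ g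
  rw [← map_mul, ← map_mul, inv_mul_cancel_right]

theorem trace_congr {P Q : Module.End ℂ V} (hP : P * P = P) (hQ : Q * Q = Q)
    (h : ∀ v, P v = v ↔ Q v = v) : LinearMap.trace ℂ V P = LinearMap.trace ℂ V Q := by
  have key : ∀ {P : Module.End ℂ V}, P * P = P → ∀ v, v ∈ LinearMap.range P ↔ P v = v := fun {P} hP v =>
    ⟨fun ⟨u, hu⟩ => by rw [← hu]; exact LinearMap.congr_fun hP u, fun hv => ⟨v, hv⟩⟩
  rw [trace_idem hP, trace_idem hQ, show LinearMap.range P = LinearMap.range Q from
    Submodule.ext fun v => by rw [key hP, key hQ, h]]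

theorem trace_le {P Q : Module.End ℂ V} (hP : P * P = P) (hQ : Q * Q = Q) (h : ∀ v, P v = v → Q v = v)
    {m n : ℕ} (hm : LinearMap.trace ℂ V P = m) (hn : LinearMap.trace ℂ V Q = n) : m ≤ n := by
  rw [trace_idem hP, Nat.cast_inj] at hm
  rw [trace_idem hQ, Nat.cast_inj] at hn
  rw [← hm, ← hn]
  refine Submodule.finrank_mono ?_
  rintro _ ⟨u, rfl⟩
  exact ⟨P u, h _ (LinearMap.congr_fun hP u)⟩

/-- `v` is an eigenvector of a family -/
def Eig {A : Type*} [AddCommGroup A] (φ : AddChar A G) (χ : AddChar A ℂ) (v : V) : Prop :=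
  ∀ t, ρ (φ t) v = χ t • v

theorem proj_apply_eq_zero {A : Type*} [AddCommGroup A] [Fintype A] (φ : AddChar A G) {χ ψ : AddChar A ℂ}
    (h : ψ ≠ χ) {v : V} (he : Eig ρ φ ψ v) : proj ρ φ χ 1 v = 0 := by
  rw [proj, LinearMap.smul_apply, LinearMap.sum_apply]
  simp only [LinearMap.smul_apply, mul_one]
  rw [Finset.sum_congr rfl fun a _ => show χ (-a) • ρ (φ a) v = (ψ - χ) a • v by
      rw [he, smul_smul, AddChar.sub_apply, AddChar.map_neg_eq_inv, mul_comm],
    ← Finset.sum_smul, AddChar.sum_eq_zero_iff_ne_zero.2 (sub_ne_zero.2 h), zero_smul, smul_zero]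

/-- eigenvectors with distinct families of characters are independent -/
theorem linearIndependent_of_eig {ι κ : Type*} [Fintype ι] {A : ι → Type*} [∀ i, AddCommGroup (A i)]
    [∀ i, Fintype (A i)] (φ : ∀ i, AddChar (A i) G) (ψ : κ → ∀ i, AddChar (A i) ℂ)
    (hψ : ∀ x y, (∀ i, ψ x i = ψ y i) → x = y) (v : κ → V) (hv0 : ∀ x, v x ≠ 0)
    (hv : ∀ x i, Eig ρ (φ i) (ψ x i) (v x)) : LinearIndependent ℂ v := by
  classical
  rw [linearIndependent_iff']
  intro s g hg x hx
  let op : List ι → Module.End ℂ V := fun l => (l.map fun i => proj ρ (φ i) (ψ x i) 1).prod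
  have op_self : ∀ l, op l (v x) = v x := by
    intro l
    induction l with
    | nil => rfl
    | cons i l ih =>
      show (proj ρ (φ i) (ψ x i) 1 * op l) (v x) = v x
      rw [Module.End.mul_apply, ih]
      exact proj_apply_of_eigen ρ _ _ (Module.End.one_apply _) (hv x i)
  have op_ne : ∀ l y, ((∀ i ∈ l, ψ y i = ψ x i) ∧ op l (v y) = v y) ∨ op l (v y) = 0 := by
    intro l y
    induction l with
    | nil => exact Or.inl ⟨fun _ h => absurd h List.not_mem_nil, rfl⟩
    | cons i l ih =>
      show (_ ∧ (proj ρ (φ i) (ψ x i) 1 * op l) (v y) = v y) ∨ (proj ρ (φ i) (ψ x i) 1 * op l) (v y) = 0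
      rw [Module.End.mul_apply]
      rcases ih with ⟨h1, h2⟩ | h2
      · by_cases hi : ψ y i = ψ x i
        · refine Or.inl ⟨fun j hj => ?_, ?_⟩
          · rcases List.mem_cons.1 hj with rfl | hj
            · exact hi
            · exact h1 j hj
          · rw [h2, ← hi]
            exact proj_apply_of_eigen ρ _ _ (Module.End.one_apply _) (hv y i)
        · exact Or.inr (by rw [h2]; exact proj_apply_eq_zero ρ _ hi (hv y i))
      · exact Or.inr (by rw [h2, map_zero])
  have := congrArg (op Finset.univ.toList) hg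
  rw [map_sum, map_zero, Finset.sum_eq_single x (fun y _ hy => ?_) fun h => absurd hx h, map_smul, op_self,
    smul_eq_zero] at this
  · exact this.resolve_right (hv0 x)
  · rcases op_ne Finset.univ.toList y with ⟨h1, -⟩ | h2
    · exact absurd (hψ y x fun i => h1 i (Finset.mem_toList.2 (Finset.mem_univ i))) hy
    · rw [map_smul, h2, smul_zero]

variable {F : Type*} [AddCommGroup F] [Fintype F]

/-- the contribution of a cell: vectors moved by the `a i` have distinct characters on the `c i` -/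
theorem cell_le (N : Subgroup G) (γ : AddChar F G) (hγN : ∀ t, γ t ∈ Subgroup.normalizer (N : Set G))
    {ι : Type*} [Fintype ι] {A B : ι → Type*} [∀ i, AddCommGroup (A i)] [∀ i, Fintype (A i)]
    [∀ i, AddCommGroup (B i)] [∀ i, Fintype (B i)] (c : ∀ i, AddChar (A i) G) (a : ∀ i, AddChar (B i) G)
    (β : ∀ i, A i → B i → F)
    (haN : ∀ i s, a i s ∈ Subgroup.normalizer (N : Set G))
    (hγa : ∀ i s t, ∃ P ∈ N, γ t * a i s = a i s * γ t * P)
    (hdiag : ∀ i s t, ∃ P ∈ N, c i t * a i s = a i s * c i t * γ (β i t s) * P)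
    (hoff : ∀ i j, i ≠ j → ∀ s t, ∃ P ∈ N, c j t * a i s = a i s * c j t * P)
    (hadd : ∀ i t s s', β i t (s + s') = β i t s + β i t s')
    (haddl : ∀ i t t' s, β i (t + t') s = β i t s + β i t' s) (χ : AddChar F ℂ)
    (hnd : ∀ i s, s ≠ 0 → ∃ t, χ (β i t s) ≠ 1)
    {v : V} (hv0 : v ≠ 0) (hvN : FixV ρ N v) (hvγ : Eig ρ γ χ v) (hvc : ∀ i t, ρ (c i t) v = v)
    {n : ℕ} (hn : LinearMap.trace ℂ V (proj ρ γ χ (fixP ρ N)) = n) : ∏ i, Fintype.card (B i) ≤ n := by
  classical
  let act : List ι → (∀ i, B i) → V := fun l s => ρ ((l.map fun i => a i (s i)).prod) v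
  have stepN : ∀ i s w, FixV ρ N w → FixV ρ N (ρ (a i s) w) := fun i s w hw g hg => by
    have h2 := (Subgroup.mem_normalizer_iff.1 (haN i s) ((a i s)⁻¹ * g * a i s)).2
      (by simpa [mul_assoc] using hg)
    rw [← app, show g * a i s = a i s * ((a i s)⁻¹ * g * a i s) by group, app, hw _ h2]
  have key : ∀ l : List ι, l.Nodup → ∀ s, FixV ρ N (act l s) ∧ Eig ρ γ χ (act l s) ∧
      ∀ j t, ρ (c j t) (act l s) = (if j ∈ l then χ (β j t (s j)) else 1) • act l s := by
    intro l
    induction l with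
    | nil => exact fun _ s => ⟨by simpa [act] using hvN, by simpa [act] using hvγ, fun j t => by simp [act, hvc]⟩
    | cons i l ih =>
      intro hnd' s
      obtain ⟨hi, hnd''⟩ := List.nodup_cons.1 hnd'
      obtain ⟨h1, h2, h3⟩ := ih hnd'' s
      have e : act (i :: l) s = ρ (a i (s i)) (act l s) := by simp [act, map_mul]
      rw [e]
      refine ⟨stepN _ _ _ h1, fun t => ?_, fun j t => ?_⟩
      · obtain ⟨P, hP, eP⟩ := hγa i (s i) t
        rw [← app, eP, app, app, h1 P hP, h2, map_smul]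
      · by_cases hji : j = i
        · subst hji
          obtain ⟨P, hP, eP⟩ := hdiag j (s j) t
          rw [← app, eP, app, app, app, h1 P hP, h2, map_smul, map_smul, h3, if_neg hi, one_smul,
            if_pos List.mem_cons_self]
        · obtain ⟨P, hP, eP⟩ := hoff i j (Ne.symm hji) (s i) t
          rw [← app, eP, app, app, h1 P hP, h3, map_smul]
          simp [hji]
  set L := (Finset.univ : Finset ι).toList with hL
  have hmem : ∀ j, j ∈ L := fun j => Finset.mem_toList.2 (Finset.mem_univ j)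
  let ψ : (∀ i, B i) → ∀ i, AddChar (A i) ℂ := fun s i =>
    { toFun := fun t => χ (β i t (s i))
      map_zero_eq_one' := by
        have h := haddl i 0 0 (s i)
        rw [add_zero] at h
        rw [left_eq_add.1 h, AddChar.map_zero_eq_one]
      map_add_eq_mul' := fun t t' => by rw [haddl, AddChar.map_add_eq_mul] }
  have hinj : ∀ s s', (∀ i, ψ s i = ψ s' i) → s = s' := by
    intro s s' h
    funext i
    by_contra hne
    obtain ⟨t, ht⟩ := hnd i (s i - s' i) (sub_ne_zero.2 hne)
    refine ht ?_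
    have e : χ (β i t (s i)) = χ (β i t (s' i)) := DFunLike.congr_fun (h i) t
    rw [show s i = (s i - s' i) + s' i from (sub_add_cancel _ _).symm, hadd, AddChar.map_add_eq_mul] at e
    exact (mul_eq_right₀ (by exact (AddChar.val_isUnit χ _).ne_zero)).1 e
  have hli := linearIndependent_of_eig ρ c ψ hinj (fun s => act L s) (fun s => app_ne_zero ρ _ hv0)
    fun s i t => by
      rw [(key L (Finset.nodup_toList _) s).2.2 i t, if_pos (hmem i)]
      rfl
  have hP : proj ρ γ χ (fixP ρ N) * proj ρ γ χ (fixP ρ N) = proj ρ γ χ (fixP ρ N) :=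
    proj_idem ρ γ χ (fixP_idem ρ N) fun t => fixP_commute ρ (hγN t)
  have hin : ∀ s, act L s ∈ LinearMap.range (proj ρ γ χ (fixP ρ N)) := fun s => by
    obtain ⟨h1, h2, -⟩ := key L (Finset.nodup_toList _) s
    exact ⟨act L s, proj_apply_of_eigen ρ γ χ ((fixP_apply_iff ρ N _).2 h1) h2⟩
  rw [trace_idem hP, Nat.cast_inj] at hn
  rw [← hn, ← Fintype.card_pi]
  exact (LinearIndependent.of_comp (LinearMap.range (proj ρ γ χ (fixP ρ N))).subtype
    (v := fun s => ⟨act L s, hin s⟩) hli).fintype_card_le_finrank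

end CfsgLib.PLocal.RadTw
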