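/-
Root families of the twisted group of type E6 and their commutators.
-/
import Cfsg.Agent.Lib.PLocal.Rad.Proj
import Cfsg.Agent.Lib.Lie.Twisted.E6
import Mathlib.Algebra.Group.AddChar

set_option autoImplicit false
set_option linter.unusedSectionVars false

namespace CfsgLib.PLocal.RadTw

open CfsgLib.Lie.Chev CfsgLib.Lie.Chev.TwGroups CfsgLib.PLocal
open Cfsg.Lie (chevE6)

/-- the roots -/
abbrev Rt := Fin chevE6.nroots

/-- the partner of a root under the twist -/
def bar (r : ℕ) : ℕ := (twAt chevE6 twTE6 r).1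

/-- the sign of the twist at a root -/
def sgn (r : ℕ) : ℤ := (twAt chevE6 twTE6 r).2.1

theorem basicOK : ∀ r < chevE6.nroots, bar r < chevE6.nroots ∧ bar (bar r) = r ∧ (twAt chevE6 twTE6 r).2.2 = 1 ∧
    sgn r * sgn (bar r) = 1 ∧ (bar r = r → sgn r = 1) ∧ (half chevE6 ≤ bar r ↔ half chevE6 ≤ r) ∧
    (bar r = r ∨ Rad.Terms chevE6 r (bar r) []) := by decide +kernel

/-- the partner of a root -/
def barF (r : Rt) : Rt := ⟨bar r, (basicOK r r.2).1⟩

theorem barF_barF (r : Rt) : barF (barF r) = r := Fin.ext (basicOK r r.2).2.1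

theorem bar_eq_iff (r : Rt) : bar r = r ↔ barF r = r := ⟨fun h => Fin.ext h, fun h => congrArg Fin.val h⟩

theorem sgn_mul (r : Rt) : sgn r * sgn (barF r) = 1 := (basicOK r r.2).2.2.2.1

theorem sgn_fixed {r : Rt} (h : bar r = r) : sgn r = 1 := (basicOK r r.2).2.2.2.2.1 h

/-- an orbit of roots -/
def orb (r : Rt) : Set Rt := {r, barF r}

theorem orb_barF (r : Rt) : orb (barF r) = orb r := by rw [orb, orb, barF_barF, Set.pair_comm]

variable {K : Type*} [Field K] [Fintype K] {q : ℕ} (hq : IsPrimePow q) (hK : Fintype.card K = q ^ 2)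

/-- the twisted group -/
noncomputable abbrev Tg : Subgroup ↥(chevE6.group K) := (twE6 hq hK).P1

/-- the action of the twist on parameters -/
noncomputable def fr (r : ℕ) (t : K) : K := (sgn r : K) * frE6 hq hK t

theorem fr_add (r : ℕ) (t u : K) : fr hq hK r (t + u) = fr hq hK r t + fr hq hK r u := by
  simp [fr, mul_add]

theorem σ_xG (r : Rt) (t : K) :
    σE6 hq hK (xG certE6 K r t) = xG certE6 K (barF r : ℕ) (fr hq hK r t) := by
  rw [σE6_gen, (basicOK r r.2).2.2.1, pow_one]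
  rfl

theorem fr_fr (r : Rt) (t : K) : fr hq hK (barF r : ℕ) (fr hq hK r t) = t := by
  simp only [fr, map_mul, map_intCast, frE6_apply, pow_qq hK, ← mul_assoc, ← Int.cast_mul]
  rw [mul_comm (sgn _) (sgn _), sgn_mul]
  simp

theorem fr_fixed {r : Rt} (h : bar r = r) (t : K) : fr hq hK r t = frE6 hq hK t := by
  simp [fr, sgn_fixed h]

/-- the parameters of a root family -/
def P (r : Rt) : AddSubgroup K where
  carrier := {t | bar r = r → frE6 hq hK t = t}
  zero_mem' := fun _ => map_zero _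
  add_mem' := fun ha hb h => by rw [map_add, ha h, hb h]
  neg_mem' := fun ha h => by rw [map_neg, ha h]

noncomputable instance (r : Rt) : Fintype ↥(P hq hK r) := Fintype.ofFinite _

/-- the fixed field -/
def Fq : AddSubgroup K where
  carrier := {t | frE6 hq hK t = t}
  zero_mem' := map_zero _
  add_mem' := fun ha hb => by rw [Set.mem_setOf_eq, map_add, ha, hb]
  neg_mem' := fun ha => by rw [Set.mem_setOf_eq, map_neg, ha]

theorem P_fixed {r : Rt} (h : bar r = r) : P hq hK r = Fq hq hK := by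
  ext t; exact ⟨fun ht => ht h, fun ht _ => ht⟩

theorem P_short {r : Rt} (h : bar r ≠ r) : P hq hK r = ⊤ := by
  ext t; exact ⟨fun _ => trivial, fun _ e => absurd e h⟩

theorem card_Fq : Nat.card ↥(Fq hq hK) = q := by
  refine Eq.trans (Nat.card_congr (Equiv.subtypeEquivRight fun t => ?_)) (card_fixed hq.one_lt two_pos hK)
  show frE6 hq hK t = t ↔ t ^ q = t
  rw [frE6_apply]

/-- the ambient element of a family -/
noncomputable def zval (r : Rt) (t : K) : ↥(chevE6.group K) :=
  xG certE6 K r t * (if bar r = r then 1 else xG certE6 K (barF r : ℕ) (fr hq hK r t))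

theorem xG_add (r : ℕ) (t u : K) : xG certE6 K r (t + u) = xG certE6 K r t * xG certE6 K r u :=
  (xG_pow_mul certE6 r t u).symm

theorem xG_zero (r : ℕ) : xG certE6 K r (0 : K) = 1 := (chevRel certE6 K).xe_zero r

theorem xG_bar_commute (r : Rt) (t u : K) :
    Commute (xG certE6 K r t) (xG certE6 K (barF r : ℕ) u) := by
  rcases (basicOK r r.2).2.2.2.2.2.2 with h | h
  · rw [show (barF r : ℕ) = r from h]
    show _ * _ = _ * _
    rw [← xG_add, ← xG_add, add_comm]
  · obtain ⟨e, he, e'⟩ := h.swap (chevRel certE6 K) (H := ⊥) (fun _ h => absurd h List.not_mem_nil) t u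
    rw [Subgroup.mem_bot.1 he, mul_one] at e'
    exact e'.symm

theorem zval_mem_US (r : Rt) (t : K) : zval hq hK r t ∈ (chevRel certE6 K).US (orb r) := by
  rw [zval]
  refine mul_mem ((chevRel certE6 K).xe_mem_US (Or.inl rfl) t) ?_
  split_ifs
  · exact one_mem _
  · exact (chevRel certE6 K).xe_mem_US (Or.inr rfl) _

theorem zval_fixed (r : Rt) {t : K} (ht : t ∈ P hq hK r) : σE6 hq hK (zval hq hK r t) = zval hq hK r t := by
  unfold zval
  split_ifs with h
  · rw [mul_one, σ_xG, fr_fixed hq hK h, ht h, show (barF r : ℕ) = r from h]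
  · rw [map_mul, σ_xG, σ_xG, barF_barF, fr_fr, (xG_bar_commute r t _).eq]

theorem mem_Tg_of_fixed {r : Rt} {g : ↥(chevE6.group K)} (hg : g ∈ (chevRel certE6 K).US (orb r))
    (hσ : σE6 hq hK g = g) : g ∈ Tg hq hK := by
  by_cases hr : half chevE6 ≤ (r : ℕ)
  · refine (twE6 hq hK).mem_P1_of_fixed_UP ((chevRel certE6 K).US_mono ?_ hg) hσ
    rintro s (rfl | rfl)
    · exact hr
    · exact (basicOK r r.2).2.2.2.2.2.1.2 hr
  · refine (twE6 hq hK).mem_P1_of_fixed_UN ((chevRel certE6 K).US_mono ?_ hg) hσ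
    rintro s (rfl | rfl)
    · exact hr
    · exact fun h => hr ((basicOK r r.2).2.2.2.2.2.1.1 h)

/-- the family of a root -/
noncomputable def Z (r : Rt) : AddChar ↥(P hq hK r) ↥(Tg hq hK) where
  toFun t := ⟨zval hq hK r t, mem_Tg_of_fixed hq hK (zval_mem_US hq hK r t) (zval_fixed hq hK r t.2)⟩
  map_zero_eq_one' := Subtype.ext (by simp [zval, fr, xG_zero])
  map_add_eq_mul' t u := Subtype.ext (by
    show zval hq hK r ((t : K) + u) = zval hq hK r t * zval hq hK r u
    unfold zval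
    split_ifs with h
    · simp [xG_add]
    · rw [fr_add, xG_add, xG_add, mul_assoc, mul_assoc, ← mul_assoc (xG certE6 K (r : ℕ) (u : K)),
        (xG_bar_commute r (u : K) _).eq, mul_assoc])

theorem Z_val (r : Rt) (t : ↥(P hq hK r)) : ((Z hq hK r t : ↥(Tg hq hK)) : ↥(chevE6.group K)) = zval hq hK r t :=
  rfl

/-- the trace of a root subgroup set in the twisted group -/
noncomputable def SG (S : Set Rt) : Subgroup ↥(Tg hq hK) := ((chevRel certE6 K).US S).subgroupOf (Tg hq hK)

theorem mem_SG {S : Set Rt} {g : ↥(Tg hq hK)} :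
    g ∈ SG hq hK S ↔ (g : ↥(chevE6.group K)) ∈ (chevRel certE6 K).US S := Iff.rfl

theorem SG_mono {S T : Set Rt} (h : S ⊆ T) : SG hq hK S ≤ SG hq hK T :=
  fun _ hg => (chevRel certE6 K).US_mono h hg

theorem Z_mem_SG {r : Rt} {S : Set Rt} (h : orb r ⊆ S) (t : ↥(P hq hK r)) : Z hq hK r t ∈ SG hq hK S :=
  (chevRel certE6 K).US_mono h (zval_mem_US hq hK r t)

theorem exists_coords {r : Rt} {g : ↥(chevE6.group K)} (hg : g ∈ (chevRel certE6 K).US (orb r)) :
    ∃ a b : K, g = xG certE6 K r a * xG certE6 K (barF r : ℕ) b := by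
  induction hg using Subgroup.closure_induction with
  | mem x hx =>
    obtain ⟨s, hs, t, rfl⟩ := hx
    rcases hs with rfl | rfl
    · exact ⟨t, 0, by rw [xG_zero, mul_one]; rfl⟩
    · exact ⟨0, t, by rw [xG_zero, one_mul]; rfl⟩
  | one => exact ⟨0, 0, by rw [xG_zero, xG_zero, one_mul]⟩
  | mul x y _ _ hx hy =>
    obtain ⟨a, b, rfl⟩ := hx
    obtain ⟨a', b', rfl⟩ := hy
    refine ⟨a + a', b + b', ?_⟩
    rw [xG_add, xG_add, mul_assoc, mul_assoc, ← mul_assoc (xG certE6 K (barF r : ℕ) b),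
      ← (xG_bar_commute r a' b).eq, mul_assoc]
  | inv x _ hx =>
    obtain ⟨a, b, rfl⟩ := hx
    refine ⟨-a, -b, ?_⟩
    rw [mul_inv_rev]
    show ((chevRel certE6 K).xe (barF r : ℕ) b)⁻¹ * ((chevRel certE6 K).xe (r : ℕ) a)⁻¹ = _
    rw [← (chevRel certE6 K).xe_neg, ← (chevRel certE6 K).xe_neg]
    exact (xG_bar_commute r (-a) (-b)).eq.symm

theorem eq_zero_of_eq {r s : Rt} (hne : r ≠ s) {a b : K} (e : xG certE6 K r a = xG certE6 K s b) : a = 0 := by
  by_contra ha
  exact hne ((chevRel certE6 K).xe_inj_root ha e)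

/-- elements of an orbit subgroup -/
theorem exists_Z {r : Rt} {g : ↥(Tg hq hK)} (hg : g ∈ SG hq hK (orb r)) : ∃ t, g = Z hq hK r t := by
  obtain ⟨a, b, e⟩ := exists_coords (r := r) ((mem_SG hq hK).1 hg)
  have hσ : σE6 hq hK (g : ↥(chevE6.group K)) = g := (twE6 hq hK).hfix _ g.2
  by_cases h : bar r = r
  · have hb : (barF r : ℕ) = r := h
    rw [hb, ← xG_add] at e
    rw [e, σ_xG, fr_fixed hq hK h, hb] at hσ
    refine ⟨⟨a + b, fun _ => (chevRel certE6 K).xe_inj_param (r := r) hσ⟩, Subtype.ext ?_⟩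
    rw [e, Z_val, zval, if_pos h, mul_one]
  · have hne : barF r ≠ r := fun e => h ((bar_eq_iff r).2 e)
    rw [e, map_mul, σ_xG, σ_xG, barF_barF] at hσ
    -- compare the coordinates
    have e2 : xG certE6 K (r : ℕ) (fr hq hK (barF r : ℕ) b - a) = xG certE6 K (barF r : ℕ) (b - fr hq hK r a) := by
      rw [sub_eq_neg_add, sub_eq_add_neg, xG_add, xG_add]
      have h1 := (xG_bar_commute r (fr hq hK (barF r : ℕ) b) (fr hq hK r a)).eq
      rw [← h1] at hσ
      rw [show xG certE6 K (r : ℕ) (-a) = (xG certE6 K r a)⁻¹ from (chevRel certE6 K).xe_neg r a,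
        show xG certE6 K (barF r : ℕ) (-fr hq hK r a) = (xG certE6 K (barF r : ℕ) (fr hq hK r a))⁻¹ from
          (chevRel certE6 K).xe_neg _ _]
      rw [inv_mul_eq_iff_eq_mul, eq_mul_inv_iff_mul_eq.2 hσ, mul_assoc]
    have h2 := eq_zero_of_eq (Ne.symm hne) e2
    rw [h2, xG_zero] at e2
    have h3 := eq_zero_of_eq hne (e2.symm.trans (xG_zero (K := K) (r : ℕ)).symm)
    refine ⟨⟨a, fun e => absurd e h⟩, Subtype.ext ?_⟩
    rw [e, Z_val, zval, if_neg h, ← sub_eq_zero.1 h3]

/-! ### commutators -/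

/-- all commutator terms between the two orbits lie in the list -/
def CT (a b : ℕ) (l : List ℕ) : Prop :=
  Rad.Terms chevE6 a b l ∧ Rad.Terms chevE6 a (bar b) l ∧ Rad.Terms chevE6 (bar a) b l ∧
    Rad.Terms chevE6 (bar a) (bar b) l

instance (a b : ℕ) (l : List ℕ) : Decidable (CT a b l) := by unfold CT; infer_instance

/-- the orbit of `a` normalises the roots in the list -/
def Nm (a : ℕ) (l : List ℕ) : Prop :=
  ∀ s ∈ l, (s = a ∨ Rad.Terms chevE6 a s l) ∧ (s = bar a ∨ Rad.Terms chevE6 (bar a) s l)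

instance (a : ℕ) (l : List ℕ) : Decidable (Nm a l) := by unfold Nm; infer_instance

/-- roots in a list -/
def lset (l : List ℕ) : Set Rt := {r | (r : ℕ) ∈ l}

theorem xG_mem_lset {l : List ℕ} {k : ℕ} (hk : k ∈ l) (c : K) :
    xG certE6 K k c ∈ (chevRel certE6 K).US (lset l) := by
  by_cases h : k < chevE6.nroots
  · exact (chevRel certE6 K).xe_mem_US (r := ⟨k, h⟩) hk c
  · rw [show xG certE6 K k c = 1 from (chevRel certE6 K).xe_oob k c h]
    exact one_mem _

theorem xG_normalizer {a : ℕ} {l : List ℕ} (h : ∀ s ∈ l, s = a ∨ Rad.Terms chevE6 a s l) (u : K) :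
    xG certE6 K a u ∈ Subgroup.normalizer (((chevRel certE6 K).US (lset l) : Subgroup _) : Set _) := by
  refine (chevRel certE6 K).xe_mem_normalizer (fun s hs t v => ?_) u
  rcases h s hs with e | hT
  · rw [← e]
    exact mul_mem (mul_mem (inv_mem (xG_mem_lset hs v)) (xG_mem_lset hs t)) (xG_mem_lset hs v)
  · have := hT.conj_mem (chevRel certE6 K) (fun k hk c => xG_mem_lset hk c) (fun c => xG_mem_lset hs c) (-v) t
    rwa [(chevRel certE6 K).xe_neg, inv_inv] at this

theorem zval_normalizer {a : Rt} {l : List ℕ} (h : Nm a l) (t : K) :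
    zval hq hK a t ∈ Subgroup.normalizer (((chevRel certE6 K).US (lset l) : Subgroup _) : Set _) := by
  unfold zval
  refine mul_mem (xG_normalizer (fun s hs => (h s hs).1) t) ?_
  split_ifs
  · exact one_mem _
  · exact xG_normalizer (fun s hs => (h s hs).2) _

theorem Z_normalizer {a : Rt} {l : List ℕ} (h : Nm a l) (t : ↥(P hq hK a)) :
    Z hq hK a t ∈ Subgroup.normalizer ((SG hq hK (lset l) : Subgroup _) : Set _) := by
  rw [Subgroup.mem_normalizer_iff]
  intro g
  exact Subgroup.mem_normalizer_iff.1 (zval_normalizer hq hK h (t : K)) (g : ↥(chevE6.group K))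

/-- two orbits commute modulo the roots in the list -/
theorem swap_mod {a b : Rt} {l : List ℕ} (h : CT a b l) (hb : Nm b l) (ha : Nm a l) (t : ↥(P hq hK a))
    (u : ↥(P hq hK b)) :
    ∃ p ∈ SG hq hK (lset l), Z hq hK b u * Z hq hK a t = Z hq hK a t * Z hq hK b u * p := by
  refine ⟨(Z hq hK a t * Z hq hK b u)⁻¹ * (Z hq hK b u * Z hq hK a t), ?_, by group⟩
  set N := (chevRel certE6 K).US (lset l) with hN
  show (zval hq hK a t * zval hq hK b u)⁻¹ * (zval hq hK b u * zval hq hK a t) ∈ N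
  -- one element of the first orbit against one of the second
  have one : ∀ x y : ℕ, Rad.Terms chevE6 x y l → ∀ c d : K,
      (xG certE6 K x c * xG certE6 K y d)⁻¹ * (xG certE6 K y d * xG certE6 K x c) ∈ N := fun x y hxy c d => by
    obtain ⟨p, hp, e⟩ := hxy.swap (chevRel certE6 K) (fun k hk c => xG_mem_lset hk c) c d
    change xG certE6 K y d * xG certE6 K x c = xG certE6 K x c * xG certE6 K y d * p at e
    rw [e, inv_mul_cancel_left]
    exact hp
  have conjN : ∀ g ∈ Subgroup.normalizer (N : Set _), ∀ p ∈ N, g⁻¹ * p * g ∈ N := fun g hg p hp => by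
    have := (Subgroup.mem_normalizer_iff.1 (inv_mem hg) p).1 hp
    rwa [inv_inv] at this
  have mulR : ∀ x y z : ↥(chevE6.group K), z ∈ Subgroup.normalizer (N : Set _) →
      (x * y)⁻¹ * (y * x) ∈ N → (x * z)⁻¹ * (z * x) ∈ N → (x * (y * z))⁻¹ * (y * z * x) ∈ N := by
    intro x y z hz h1 h2
    have := mul_mem (conjN z hz _ h1) h2
    convert this using 1
    group
  have mulL : ∀ x y z : ↥(chevE6.group K), y ∈ Subgroup.normalizer (N : Set _) →
      (x * z)⁻¹ * (z * x) ∈ N → (y * z)⁻¹ * (z * y) ∈ N → (x * y * z)⁻¹ * (z * (x * y)) ∈ N := by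
    intro x y z hy h1 h2
    have := mul_mem h2 (conjN y hy _ h1)
    convert this using 1
    group
  have left : ∀ c d : K, ∀ x : ℕ, Rad.Terms chevE6 x (b : ℕ) l → Rad.Terms chevE6 x (barF b : ℕ) l →
      (xG certE6 K x c * zval hq hK b d)⁻¹ * (zval hq hK b d * xG certE6 K x c) ∈ N := by
    intro c d x h1 h2
    unfold zval
    split_ifs
    · simp only [mul_one]; exact one _ _ h1 c d
    · exact mulR _ _ _ (xG_normalizer (fun s hs => (hb s hs).2) _) (one _ _ h1 c d) (one _ _ h2 c _)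
  have ea : zval hq hK a t =
      xG certE6 K a (t : K) * (if bar a = a then 1 else xG certE6 K (barF a : ℕ) (fr hq hK a t)) := rfl
  rw [ea]
  split_ifs
  · simp only [mul_one]; exact left _ _ _ h.1 h.2.1
  · exact mulL _ _ _ (xG_normalizer (fun s hs => (ha s hs).2) _) (left _ _ _ h.1 h.2.1) (left _ _ _ h.2.2.1 h.2.2.2)

end CfsgLib.PLocal.RadTw
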