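/-
Twisted unipotent groups are generated by the root families; monomial lifts.
-/
import Cfsg.Agent.Lib.PLocal.RadTw.Setup

set_option autoImplicit false
set_option linter.unusedSectionVars false

namespace CfsgLib.PLocal.RadTw

open CfsgLib.Lie.Chev CfsgLib.Lie.Chev.TwGroups CfsgLib.PLocal
open Cfsg.Lie (chevE6)

variable {K : Type*} [Field K] [Fintype K] {q : ℕ} (hq : IsPrimePow q) (hK : Fintype.card K = q ^ 2)

/-- the subgroup generated by the families of the orbits inside `S` -/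
noncomputable def CG (S : Set Rt) : Subgroup ↥(Tg hq hK) :=
  Subgroup.closure {g | ∃ r, orb r ⊆ S ∧ g ∈ SG hq hK (orb r)}

theorem CG_le {S : Set Rt} {H : Subgroup ↥(Tg hq hK)}
    (h : ∀ r, orb r ⊆ S → ∀ g ∈ SG hq hK (orb r), g ∈ H) : CG hq hK S ≤ H :=
  (Subgroup.closure_le _).2 fun g ⟨r, hr, hg⟩ => h r hr g hg

theorem mem_CG {S : Set Rt} {r : Rt} (hr : orb r ⊆ S) {g : ↥(Tg hq hK)} (hg : g ∈ SG hq hK (orb r)) :
    g ∈ CG hq hK S := Subgroup.subset_closure ⟨r, hr, hg⟩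

theorem CG_mono {S T : Set Rt} (h : S ⊆ T) : CG hq hK S ≤ CG hq hK T :=
  CG_le hq hK fun _ hr _ hg => mem_CG hq hK (hr.trans h) hg

theorem rho_eq (r : Rt) : (twE6 hq hK).ρ r = barF r := Fin.ext rfl

theorem perm_bar {n : (chevRel certE6 K).NS} (hn : (n : ↥(chevE6.group K)) ∈ Tg hq hK) (r : Rt) :
    (chevRel certE6 K).nsPerm n (barF r) = barF ((chevRel certE6 K).nsPerm n r) := by
  have := (twE6 hq hK).toTw.perm_comm ((twE6 hq hK).hfix _ hn) r
  rwa [rho_eq, rho_eq] at this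

theorem conj_orb {n : (chevRel certE6 K).NS} (hn : (n : ↥(chevE6.group K)) ∈ Tg hq hK) {r : Rt}
    {g : ↥(Tg hq hK)} (hg : g ∈ SG hq hK (orb r)) :
    (⟨n, hn⟩ : ↥(Tg hq hK)) * g * (⟨n, hn⟩ : ↥(Tg hq hK))⁻¹ ∈
      SG hq hK (orb ((chevRel certE6 K).nsPerm n r)) := by
  obtain ⟨a, ha⟩ := (chevRel certE6 K).isMon_nsPerm n
  refine Rel.IsMon.conj_mem_US (chevRel certE6 K) ha (fun s hs => ?_) hg
  rcases hs with rfl | rfl
  · exact Or.inl rfl
  · exact Or.inr (perm_bar hq hK hn r)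

theorem orbClass : ∀ k : Fin 4, ∀ r ∈ classList chevE6 auxE6 orbLE6 k, ∀ s ∈ classList chevE6 auxE6 orbLE6 k,
    s = r ∨ s = bar r := by decide +kernel

theorem mem_classList {k : Fin 4} {r : Rt} (h : r ∈ posSub chevE6 auxE6 orbE6 k) :
    (r : ℕ) ∈ classList chevE6 auxE6 orbLE6 k := by
  have hn : chevE6.nroots ≤ half chevE6 + half chevE6 := by decide +kernel
  rw [classList, List.mem_filter, List.mem_range'_1]
  refine ⟨⟨h.1, lt_of_lt_of_le r.2 hn⟩, List.all_eq_true.2 fun i hi => ?_⟩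
  rw [List.mem_range] at hi
  rw [Bool.or_eq_true, nat_beq_iff, decide_eq_true_iff]
  by_cases hik : orbE6 ⟨i, hi⟩ = k
  · exact Or.inl ((orbE6_ho ⟨i, hi⟩).trans (congrArg Fin.val hik))
  · exact Or.inr (h.2 i hi fun ⟨j, hj, e⟩ => hik (by rw [← e]; exact congrArg orbE6 (Fin.ext hj.symm)))

theorem class_mem_CG (k : Fin (twE6 hq hK).κ) {g : ↥(Tg hq hK)}
    (hg : g ∈ SG hq hK (posSub chevE6 auxE6 (twE6 hq hK).orb k)) :
    g ∈ CG hq hK (posSub chevE6 auxE6 (twE6 hq hK).orb k) := by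
  obtain ⟨r, hr⟩ : (posSub chevE6 auxE6 (twE6 hq hK).orb k).Nonempty :=
    Set.nonempty_of_ncard_ne_zero ((twE6 hq hK).posSub_nonempty k).ne'
  have hbar : barF r ∈ posSub chevE6 auxE6 (twE6 hq hK).orb k := by
    have h := (twE6 hq hK).pos r
    rw [rho_eq] at h
    refine ⟨h.2 hr.1, ?_⟩
    have key : ∀ k : Fin 4, ∀ r ∈ classList chevE6 auxE6 orbLE6 k,
        bar r ∈ classList chevE6 auxE6 orbLE6 k := by decide +kernel
    have h2 := List.mem_filter.1 (key k r (mem_classList hr))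
    intro i hi hik
    have h3 := List.all_eq_true.1 h2.2 i (List.mem_range.2 hi)
    rw [Bool.or_eq_true, nat_beq_iff, decide_eq_true_iff] at h3
    exact h3.resolve_left fun e => hik ⟨⟨i, hi⟩, rfl, Fin.ext ((orbE6_ho ⟨i, hi⟩).symm.trans e)⟩
  refine mem_CG hq hK (r := r) ?_ (SG_mono hq hK ?_ hg)
  · rintro s (rfl | rfl)
    · exact hr
    · exact hbar
  · intro s hs
    rcases orbClass k r (mem_classList hr) s (mem_classList hs) with h | h
    · exact Or.inl (Fin.ext h)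
    · exact Or.inr (Fin.ext h)

/-- fixed elements inverted by `n` are generated by families -/
theorem inv_mem_CG : ∀ (n : (chevRel certE6 K).NS) (hn : (n : ↥(chevE6.group K)) ∈ Tg hq hK) (g : ↥(Tg hq hK)),
    (g : ↥(chevE6.group K)) ∈ (chevRel certE6 K).UP →
    (n : ↥(chevE6.group K)) * g * (n : ↥(chevE6.group K))⁻¹ ∈ (chevRel certE6 K).UN →
    g ∈ CG hq hK (invSet ((chevRel certE6 K).nsPerm n)) := by
  intro n
  induction hN : (invSet ((chevRel certE6 K).nsPerm n)).ncard using Nat.strong_induction_on generalizing n with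
  | _ N ih =>
    intro hn g hu hc
    by_cases hH : (n : ↥(chevE6.group K)) ∈ (chevRel certE6 K).HS
    · have h2 : (n : ↥(chevE6.group K)) * g * (n : ↥(chevE6.group K))⁻¹ ∈ (chevRel certE6 K).UP :=
        (Subgroup.mem_normalizer_iff.1 ((chevRel certE6 K).HS_le_normalizer_US _ hH) _).1 hu
      have h3 := (chevRel certE6 K).BS_inf_UN ((chevRel certE6 K).UP_le_BS h2) hc
      rw [mul_inv_eq_one, mul_eq_left] at h3
      rw [show g = 1 from Subtype.ext h3]
      exact one_mem _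
    · have hn' : (twE6 hq hK).σ n = n := (twE6 hq hK).hfix _ hn
      obtain ⟨k, hk⟩ := (twE6 hq hK).exists_descent_orb hn' hH
      have hnk : (twE6 hq hK).σ ((twE6 hq hK).nJ k : ↥(chevE6.group K)) = (twE6 hq hK).nJ k := (twE6 hq hK).hfix _ ((twE6 hq hK).nJ_mem k)
      obtain ⟨p, hp, m, hm, e, hσp, hσm⟩ := (twE6 hq hK).fixed_factor hnk hu ((twE6 hq hK).hfix _ g.2)
      rw [(twE6 hq hK).nJ_inv k] at hm
      obtain ⟨a, ha⟩ := (chevRel certE6 K).isMon_nsPerm n
      have hm2 : (n : ↥(chevE6.group K)) * m * (n : ↥(chevE6.group K))⁻¹ ∈ (chevRel certE6 K).UN :=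
        Rel.IsMon.conj_mem_US (chevRel certE6 K) ha (T := negSet chevE6) (fun r hr => (hk hr).2) hm
      have hm1 : m ∈ Tg hq hK := (twE6 hq hK).mem_P1_of_fixed_UP ((chevRel certE6 K).US_mono (fun r hr => hr.1) hm) hσm
      have hp1 : p ∈ Tg hq hK := (twE6 hq hK).mem_P1_of_fixed_UP ((chevRel certE6 K).US_mono (fun r hr => hr.1) hp) hσp
      have hlt : (invSet ((chevRel certE6 K).nsPerm (n * ((twE6 hq hK).nJ k)⁻¹))).ncard < N := by
        have h1 := (twE6 hq hK).ncard_inv_mul_nJ hk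
        have h2 := (twE6 hq hK).posSub_nonempty k
        omega
      have hnk1 : ((n * ((twE6 hq hK).nJ k)⁻¹ : (chevRel certE6 K).NS) : ↥(chevE6.group K)) ∈ Tg hq hK := by
        rw [Subgroup.coe_mul, Subgroup.coe_inv]
        exact mul_mem hn (inv_mem ((twE6 hq hK).nJ_mem k))
      have hc' := ih _ hlt (n * ((twE6 hq hK).nJ k)⁻¹) rfl hnk1
        ((⟨_, (twE6 hq hK).nJ_mem k⟩ : ↥(Tg hq hK)) * ⟨p, hp1⟩ * (⟨_, (twE6 hq hK).nJ_mem k⟩ : ↥(Tg hq hK))⁻¹)
        (by simp only [Subgroup.coe_mul, Subgroup.coe_inv]; exact (chevRel certE6 K).conj_keep hp) (by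
          simp only [Subgroup.coe_mul, Subgroup.coe_inv]
          have : (n : ↥(chevE6.group K)) * ((twE6 hq hK).nJ k : ↥(chevE6.group K))⁻¹ *
              (((twE6 hq hK).nJ k : ↥(chevE6.group K)) * p * ((twE6 hq hK).nJ k : ↥(chevE6.group K))⁻¹) *
              ((n : ↥(chevE6.group K)) * ((twE6 hq hK).nJ k : ↥(chevE6.group K))⁻¹)⁻¹ =
              ((n : ↥(chevE6.group K)) * (p * m) * (n : ↥(chevE6.group K))⁻¹) *
                ((n : ↥(chevE6.group K)) * m * (n : ↥(chevE6.group K))⁻¹)⁻¹ := by group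
          rw [this, ← e]
          exact mul_mem hc (inv_mem hm2))
      have hp2 : (⟨p, hp1⟩ : ↥(Tg hq hK)) ∈ CG hq hK (invSet ((chevRel certE6 K).nsPerm n)) := by
        have hle : CG hq hK (invSet ((chevRel certE6 K).nsPerm (n * ((twE6 hq hK).nJ k)⁻¹))) ≤
            (CG hq hK (invSet ((chevRel certE6 K).nsPerm n))).comap (MulAut.conj (⟨_, (twE6 hq hK).nJ_mem k⟩ : ↥(Tg hq hK))⁻¹).toMonoidHom := by
          refine CG_le hq hK fun r hr x hx => ?_
          rw [Subgroup.mem_comap]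
          have hconj := conj_orb hq hK (n := ((twE6 hq hK).nJ k)⁻¹) (inv_mem ((twE6 hq hK).nJ_mem k)) hx
          refine mem_CG hq hK ?_ hconj
          rw [(twE6 hq hK).inv_mul_nJ hk] at hr
          have hinv : (chevRel certE6 K).nsPerm ((twE6 hq hK).nJ k)⁻¹ = (chevRel certE6 K).nsPerm ((twE6 hq hK).nJ k) := by
            rw [map_inv]
            exact Equiv.ext fun s => (Equiv.symm_apply_eq _).2 ((twE6 hq hK).nJ_perm_invol k s).symm
          intro s hs
          have key : ∀ y ∈ orb r, (chevRel certE6 K).nsPerm ((twE6 hq hK).nJ k) y ∈ invSet ((chevRel certE6 K).nsPerm n) := fun y hy => by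
            obtain ⟨z, hz, rfl⟩ := hr hy
            rw [(twE6 hq hK).nJ_perm_invol]
            exact hz.1
          rcases hs with rfl | rfl
          · rw [hinv]; exact key r (Or.inl rfl)
          · rw [hinv, ← perm_bar hq hK ((twE6 hq hK).nJ_mem k)]; exact key (barF r) (Or.inr rfl)
        have h := hle hc'
        rw [Subgroup.mem_comap] at h
        simp only [MulEquiv.coe_toMonoidHom, MulAut.conj_apply, inv_inv, mul_assoc, inv_mul_cancel, mul_one,
          inv_mul_cancel_left] at h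
        exact h
      have hm3 : (⟨m, hm1⟩ : ↥(Tg hq hK)) ∈ CG hq hK (invSet ((chevRel certE6 K).nsPerm n)) :=
        CG_mono hq hK hk (class_mem_CG hq hK k hm)
      rw [show g = ⟨p, hp1⟩ * ⟨m, hm1⟩ from Subtype.ext e]
      exact mul_mem hp2 hm3

theorem class_simple : ∀ k : Fin 4, ∀ r ∈ classList chevE6 auxE6 orbLE6 k, r ∈ [46, 39] →
    classList chevE6 auxE6 orbLE6 k = [r] := by decide +kernel

/-- positive roots other than the long simple root `i` -/
def rest (i : ℕ) : Set Rt := {r | half chevE6 ≤ (r : ℕ) ∧ (r : ℕ) ≠ i}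

theorem rest_mem_CG {i : Rt} (hi : (i : ℕ) ∈ [46, 39]) {g : ↥(Tg hq hK)} (hg : g ∈ SG hq hK (rest i)) :
    g ∈ CG hq hK (rest i) := by
  obtain ⟨k, hk⟩ : ∃ k : Fin (twE6 hq hK).κ, (i : ℕ) ∈ classList chevE6 auxE6 orbLE6 k := by
    have : ∀ r ∈ [46, 39], ∃ k : Fin 4, r ∈ classList chevE6 auxE6 orbLE6 k := by decide +kernel
    obtain ⟨k, hk⟩ := this _ hi
    exact ⟨k, hk⟩
  have hcl := class_simple k _ hk hi
  have hset : ∀ r : Rt, r ∈ posSub chevE6 auxE6 (twE6 hq hK).orb k ↔ r = i := by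
    intro r
    constructor
    · intro h
      have := mem_classList (k := k) h
      rw [hcl, List.mem_singleton] at this
      exact Fin.ext this
    · rintro rfl
      have h0 := (twE6 hq hK).posSub_nonempty k
      obtain ⟨s, hs⟩ : (posSub chevE6 auxE6 (twE6 hq hK).orb k).Nonempty := Set.nonempty_of_ncard_ne_zero h0.ne'
      have := mem_classList (k := k) hs
      rw [hcl, List.mem_singleton] at this
      rwa [show r = s from Fin.ext this.symm]
  obtain ⟨n0, hn0, hn0'⟩ := (twE6 hq hK).exists_n0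
  have hsub : posSub chevE6 auxE6 (twE6 hq hK).orb k ⊆ invSet ((chevRel certE6 K).nsPerm n0) := fun r hr => ⟨hr.1, hn0' r hr.1⟩
  have hinv := (twE6 hq hK).inv_mul_nJ hsub
  have heq : invSet ((chevRel certE6 K).nsPerm (n0 * ((twE6 hq hK).nJ k)⁻¹)) = rest i := by
    rw [hinv]
    ext r
    constructor
    · rintro ⟨s, ⟨hs, hsk⟩, rfl⟩
      obtain ⟨h1, h2⟩ := (twE6 hq hK).nJ_pos hs.1 hsk
      exact ⟨h1, fun e => h2 ((hset _).2 (Fin.ext e))⟩
    · rintro ⟨h1, h2⟩
      have hr : r ∉ posSub chevE6 auxE6 (twE6 hq hK).orb k := fun h => h2 (congrArg Fin.val ((hset _).1 h))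
      obtain ⟨g1, g2⟩ := (twE6 hq hK).nJ_pos h1 hr
      exact ⟨_, ⟨⟨g1, hn0' _ g1⟩, g2⟩, (twE6 hq hK).nJ_perm_invol k r⟩
  have hn1 : ((n0 * ((twE6 hq hK).nJ k)⁻¹ : (chevRel certE6 K).NS) : ↥(chevE6.group K)) ∈ Tg hq hK := by
    rw [Subgroup.coe_mul, Subgroup.coe_inv]
    exact mul_mem hn0 (inv_mem ((twE6 hq hK).nJ_mem k))
  obtain ⟨a, ha⟩ := (chevRel certE6 K).isMon_nsPerm (n0 * ((twE6 hq hK).nJ k)⁻¹)
  have := inv_mem_CG hq hK _ hn1 g ((chevRel certE6 K).US_mono (fun r hr => hr.1) ((mem_SG hq hK).1 hg))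
    (Rel.IsMon.conj_mem_US (chevRel certE6 K) ha (T := negSet chevE6) (fun r hr => (heq.symm ▸ hr : r ∈ invSet _).2)
      ((mem_SG hq hK).1 hg))
  rwa [heq] at this

end CfsgLib.PLocal.RadTw
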