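/-
Commutators of two root families landing in a third.
-/
import Cfsg.Agent.Lib.PLocal.RadTw.Setup

set_option autoImplicit false
set_option linter.unusedSectionVars false

namespace CfsgLib.PLocal.RadTw

open CfsgLib.Lie.Chev CfsgLib.Lie.Chev.TwGroups CfsgLib.PLocal
open Cfsg.Lie (chevE6)

/-- the families of `a` and `c` have their commutators in the family of `k` -/
def Pair (a c k : ℕ) : Prop :=
  (bar a = a ∧ bar c = c ∧ bar k = k ∧ Rad.One chevE6 a c k) ∨
    (bar a ≠ a ∧ bar c ≠ c ∧ Rad.One chevE6 a c k ∧ Rad.One chevE6 (bar a) (bar c) (bar k) ∧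
      Rad.Terms chevE6 a (bar c) [] ∧ Rad.Terms chevE6 (bar a) c [] ∧
      Rad.Terms chevE6 (bar a) k [] ∧ Rad.Terms chevE6 (bar c) k [])

instance (a c k : ℕ) : Decidable (Pair a c k) := by unfold Pair; infer_instance

variable {K : Type*} [Field K] [Fintype K] {q : ℕ} (hq : IsPrimePow q) (hK : Fintype.card K = q ^ 2)

theorem xG_commute_of_terms {r s : ℕ} (h : Rad.Terms chevE6 r s []) (t u : K) :
    Commute (xG certE6 K r t) (xG certE6 K s u) := by
  obtain ⟨p, hp, e⟩ := h.swap (chevRel certE6 K) (H := ⊥) (fun _ h => absurd h List.not_mem_nil) t u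
  rw [Subgroup.mem_bot.1 hp, mul_one] at e
  exact e.symm

include hq hK in
theorem exists_not_fixed : ∃ t : K, frE6 hq hK t ≠ t := by
  by_contra h
  push Not at h
  have h1 := card_Fq hq hK
  have h2 : Fq hq hK = ⊤ := AddSubgroup.ext fun t => ⟨fun _ => trivial, fun _ => h t⟩
  rw [h2, AddSubgroup.card_top, Nat.card_eq_fintype_card, hK] at h1
  have := hq.two_le
  nlinarith

/-- a nonzero form `A s t + B sᵠ tᵠ` with fixed values takes all fixed values -/
theorem trace_surj {A B s : K} (hA : A ≠ 0) (hs : s ≠ 0)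
    (hval : ∀ t : K, frE6 hq hK (A * s * t + B * (frE6 hq hK s * frE6 hq hK t)) =
      A * s * t + B * (frE6 hq hK s * frE6 hq hK t))
    {w : K} (hw : frE6 hq hK w = w) : ∃ t : K, A * s * t + B * (frE6 hq hK s * frE6 hq hK t) = w := by
  obtain ⟨t0, ht0⟩ : ∃ t0, A * s * t0 + B * (frE6 hq hK s * frE6 hq hK t0) ≠ 0 := by
    by_contra h
    push Not at h
    obtain ⟨t, ht⟩ := exists_not_fixed hq hK
    have h1 := h 1
    rw [map_one, mul_one, mul_one] at h1
    have h2 : A * s * (t - frE6 hq hK t) = 0 := by linear_combination h t - frE6 hq hK t * h1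
    exact ht (sub_eq_zero.1 ((mul_eq_zero.1 h2).resolve_left (mul_ne_zero hA hs))).symm
  set v0 := A * s * t0 + B * (frE6 hq hK s * frE6 hq hK t0) with hv0
  refine ⟨w / v0 * t0, ?_⟩
  rw [map_mul, map_div₀, hw, hval t0, show A * s * (w / v0 * t0) + B * (frE6 hq hK s *
    (w / v0 * frE6 hq hK t0)) = w / v0 * v0 by rw [hv0]; ring, div_mul_cancel₀ _ ht0]

theorem P_one {r : Rt} : (1 : K) ∈ P hq hK r := fun _ => map_one _

theorem Z_coord {r : Rt} {w : ↥(P hq hK r)} {a b : K}
    (e : zval hq hK r w = xG certE6 K r a * xG certE6 K (bar r) b) :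
    (w : K) = if bar r = r then a + b else a := by
  unfold zval at e
  split_ifs with h
  · rw [if_pos h, mul_one, h, ← xG_add] at e
    exact (chevRel certE6 K).xe_inj_param (r := r) e
  · rw [if_neg h] at e
    change xG certE6 K r (w : K) * xG certE6 K (barF r : ℕ) _ = _ * xG certE6 K (barF r : ℕ) b at e
    have hne : barF r ≠ r := fun e => h ((bar_eq_iff r).2 e)
    have e2 : xG certE6 K (r : ℕ) (-a + (w : K)) =
        xG certE6 K (barF r : ℕ) (b + -fr hq hK r (w : K)) := by
      rw [xG_add, xG_add, show xG certE6 K (r : ℕ) (-a) = (xG certE6 K r a)⁻¹ from (chevRel certE6 K).xe_neg r a,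
        show xG certE6 K (barF r : ℕ) (-fr hq hK r (w : K)) = (xG certE6 K (barF r : ℕ) (fr hq hK r (w : K)))⁻¹
          from (chevRel certE6 K).xe_neg _ _, inv_mul_eq_iff_eq_mul, ← mul_assoc, eq_mul_inv_iff_mul_eq, e]
    linear_combination eq_zero_of_eq (Ne.symm hne) e2

/-- the pairing of two families -/
theorem Pair.spec {a c k : Rt} (h : Pair a c k) :
    ∃ β : ↥(P hq hK a) → ↥(P hq hK c) → ↥(P hq hK k),
      (∀ s t, Z hq hK c t * Z hq hK a s = Z hq hK a s * Z hq hK c t * Z hq hK k (β s t)) ∧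
      (∀ s s' t, β (s + s') t = β s t + β s' t) ∧ (∀ s t t', β s (t + t') = β s t + β s t') ∧
      (∀ s, s ≠ 0 → ∀ w, ∃ t, β s t = w) ∧ ∀ t, t ≠ 0 → ∀ w, ∃ s, β s t = w := by
  rcases h with ⟨ha, hc, hk, hone⟩ | ⟨ha, hc, hone, hone', hac, hca, hak, hck⟩
  · obtain ⟨ε, hε, e⟩ := hone.swap (chevRel certE6 K)
    have ev : ∀ (s : ↥(P hq hK a)) (t : ↥(P hq hK c)), ∃ w : ↥(P hq hK k), (w : K) = ε * s * t ∧
        Z hq hK c t * Z hq hK a s = Z hq hK a s * Z hq hK c t * Z hq hK k w := by
      intro s t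
      have e1 := e s t
      set p := (Z hq hK a s * Z hq hK c t)⁻¹ * (Z hq hK c t * Z hq hK a s) with hp
      have hv : (p : ↥(chevE6.group K)) = xG certE6 K k (ε * s * t) := by
        rw [hp, Subgroup.coe_mul, InvMemClass.coe_inv, Subgroup.coe_mul, Subgroup.coe_mul, Z_val, Z_val, zval,
          zval, if_pos ha, if_pos hc, mul_one, mul_one]
        change _ * (xG certE6 K c (t : K) * xG certE6 K a (s : K)) = _
        rw [show xG certE6 K (c : ℕ) (t : K) * xG certE6 K a (s : K) =
          xG certE6 K a (s : K) * xG certE6 K c (t : K) * xG certE6 K k (ε * s * t) from e1, inv_mul_cancel_left]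
      obtain ⟨w, hw⟩ := exists_Z hq hK (r := k) (g := p) (by
        rw [mem_SG, hv]; exact (chevRel certE6 K).xe_mem_US (Or.inl rfl) _)
      refine ⟨w, ?_, by rw [← hw, hp, mul_inv_cancel_left]⟩
      rw [hw, Z_val, zval, if_pos hk, mul_one] at hv
      exact (chevRel certE6 K).xe_inj_param (r := k) hv
    choose β hβ e' using ev
    have hεf : frE6 hq hK ε = ε := by
      have := (β ⟨1, P_one hq hK⟩ ⟨1, P_one hq hK⟩).2 hk
      rwa [hβ, mul_one, mul_one] at this
    refine ⟨β, e', fun s s' t => Subtype.ext (by rw [AddSubgroup.coe_add, hβ, hβ, hβ, AddSubgroup.coe_add]; ring),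
      fun s t t' => Subtype.ext (by rw [AddSubgroup.coe_add, hβ, hβ, hβ, AddSubgroup.coe_add]; ring),
      fun s hs w => ?_, fun t ht w => ?_⟩
    · have hs' : (s : K) ≠ 0 := fun e => hs (Subtype.ext e)
      refine ⟨⟨(w : K) / (ε * s), fun _ => by rw [map_div₀, map_mul, w.2 hk, hεf, s.2 ha]⟩, Subtype.ext ?_⟩
      rw [hβ]
      field_simp
    · have ht' : (t : K) ≠ 0 := fun e => ht (Subtype.ext e)
      refine ⟨⟨(w : K) / (ε * t), fun _ => by rw [map_div₀, map_mul, w.2 hk, hεf, t.2 hc]⟩, Subtype.ext ?_⟩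
      rw [hβ]
      field_simp
  · obtain ⟨ε, hε, e⟩ := hone.swap (chevRel certE6 K)
    obtain ⟨δ, hδ, e'⟩ := hone'.swap (chevRel certE6 K)
    obtain ⟨B, hB⟩ : ∃ B : K, B = δ * (sgn a : K) * (sgn c : K) := ⟨_, rfl⟩
    have ev : ∀ (s : ↥(P hq hK a)) (t : ↥(P hq hK c)), ∃ w : ↥(P hq hK k),
        (w : K) = (if bar k = k then ε * s * t + B * (frE6 hq hK s * frE6 hq hK t) else ε * s * t) ∧
        Z hq hK c t * Z hq hK a s = Z hq hK a s * Z hq hK c t * Z hq hK k w := by
      intro s t
      set p := (Z hq hK a s * Z hq hK c t)⁻¹ * (Z hq hK c t * Z hq hK a s) with hp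
      have e1 : xG certE6 K (c : ℕ) (t : K) * xG certE6 K a (s : K) =
          xG certE6 K a (s : K) * xG certE6 K c (t : K) * xG certE6 K k (ε * s * t) := e s t
      have e2 : xG certE6 K (barF c : ℕ) (fr hq hK c t) * xG certE6 K (barF a : ℕ) (fr hq hK a s) =
          xG certE6 K (barF a : ℕ) (fr hq hK a s) * xG certE6 K (barF c : ℕ) (fr hq hK c t) *
            xG certE6 K (bar k) (δ * fr hq hK a s * fr hq hK c t) := e' _ _
      have c1 : Commute (xG certE6 K (barF c : ℕ) (fr hq hK c t)) (xG certE6 K a (s : K)) :=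
        (xG_commute_of_terms hac _ _).symm
      have c2 : Commute (xG certE6 K (barF a : ℕ) (fr hq hK a s)) (xG certE6 K c (t : K)) :=
        xG_commute_of_terms hca _ _
      have c3 : Commute (xG certE6 K (barF a : ℕ) (fr hq hK a s)) (xG certE6 K k (ε * s * t)) :=
        xG_commute_of_terms hak _ _
      have c4 : Commute (xG certE6 K (barF c : ℕ) (fr hq hK c t)) (xG certE6 K k (ε * s * t)) :=
        xG_commute_of_terms hck _ _
      have hv : (p : ↥(chevE6.group K)) =
          xG certE6 K k (ε * s * t) * xG certE6 K (bar k) (δ * fr hq hK a s * fr hq hK c t) := by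
        rw [hp, Subgroup.coe_mul, InvMemClass.coe_inv, Subgroup.coe_mul, Subgroup.coe_mul, Z_val, Z_val, zval,
          zval, if_neg ha, if_neg hc, inv_mul_eq_iff_eq_mul]
        calc xG certE6 K c (t : K) * xG certE6 K (barF c : ℕ) (fr hq hK c t) *
              (xG certE6 K a (s : K) * xG certE6 K (barF a : ℕ) (fr hq hK a s))
            = xG certE6 K c (t : K) * xG certE6 K a (s : K) *
              (xG certE6 K (barF c : ℕ) (fr hq hK c t) * xG certE6 K (barF a : ℕ) (fr hq hK a s)) := by
              rw [mul_assoc, ← mul_assoc (xG certE6 K (barF c : ℕ) _), c1.eq]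
              simp only [mul_assoc]
          _ = xG certE6 K a (s : K) * xG certE6 K c (t : K) * (xG certE6 K k (ε * s * t) *
              (xG certE6 K (barF a : ℕ) (fr hq hK a s) * xG certE6 K (barF c : ℕ) (fr hq hK c t))) *
              xG certE6 K (bar k) (δ * fr hq hK a s * fr hq hK c t) := by
              rw [e1, e2]
              simp only [mul_assoc]
          _ = _ := by
              rw [← ((c3.mul_left c4).eq)]
              simp only [mul_assoc]
              rw [← mul_assoc (xG certE6 K c (t : K)) (xG certE6 K (barF a : ℕ) _), ← c2.eq]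
              simp only [mul_assoc]
      obtain ⟨w, hw⟩ := exists_Z hq hK (r := k) (g := p) (by
        rw [mem_SG, hv]
        exact mul_mem ((chevRel certE6 K).xe_mem_US (r := k) (Or.inl rfl) _)
          ((chevRel certE6 K).xe_mem_US (r := barF k) (Or.inr rfl) _))
      refine ⟨w, ?_, by rw [← hw, hp, mul_inv_cancel_left]⟩
      rw [hw, Z_val] at hv
      rw [Z_coord hq hK hv]
      split_ifs
      · rw [hB, fr, fr]; ring
      · rfl
    choose β hβ e'' using ev
    refine ⟨β, e'', fun s s' t => Subtype.ext ?_, fun s t t' => Subtype.ext ?_, fun s hs w => ?_, fun t ht w => ?_⟩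
    · simp only [AddSubgroup.coe_add, hβ]
      split_ifs
      · simp only [map_add]; ring
      · ring
    · simp only [AddSubgroup.coe_add, hβ]
      split_ifs
      · simp only [map_add]; ring
      · ring
    · have hs' : (s : K) ≠ 0 := fun e => hs (Subtype.ext e)
      by_cases hk : bar k = k
      · obtain ⟨t, ht⟩ := trace_surj hq hK (A := ε) (B := B) hε hs' (fun t => by
          have := (β s ⟨t, fun e => absurd e hc⟩).2 hk
          rwa [hβ, if_pos hk] at this) (w.2 hk)
        exact ⟨⟨t, fun e => absurd e hc⟩, Subtype.ext (by rw [hβ, if_pos hk]; exact ht)⟩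
      · refine ⟨⟨(w : K) / (ε * s), fun e => absurd e hc⟩, Subtype.ext ?_⟩
        rw [hβ, if_neg hk]
        field_simp
    · have ht' : (t : K) ≠ 0 := fun e => ht (Subtype.ext e)
      by_cases hk : bar k = k
      · obtain ⟨s, hs⟩ := trace_surj hq hK (A := ε) (B := B) (s := (t : K)) hε ht' (fun s => by
          have := (β ⟨s, fun e => absurd e ha⟩ t).2 hk
          rw [hβ, if_pos hk] at this
          rwa [mul_comm (frE6 hq hK (t : K)), mul_right_comm ε]) (w.2 hk)
        refine ⟨⟨s, fun e => absurd e ha⟩, Subtype.ext ?_⟩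
        rw [hβ, if_pos hk]
        linear_combination hs
      · refine ⟨⟨(w : K) / (ε * t), fun e => absurd e ha⟩, Subtype.ext ?_⟩
        rw [hβ, if_neg hk]
        field_simp

end CfsgLib.PLocal.RadTw
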