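/-
Lifts of relative Weyl words and the contribution of a cell.
-/
import Cfsg.Agent.Lib.PLocal.RadTw.Fix
import Cfsg.Agent.Lib.PLocal.RadTw.Pair
import Cfsg.Agent.Lib.PLocal.RadTw.Gen

set_option autoImplicit false
set_option linter.unusedSectionVars false

namespace CfsgLib.PLocal.RadTw

open Module CfsgLib.Lie.Chev CfsgLib.Lie.Chev.TwGroups CfsgLib.PLocal CfsgLib.PLocal.Triality
open Cfsg.Lie (chevE6)

/-- the image of a root under the `k`-th relative simple reflection -/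
def gW : ℕ → ℕ → ℕ
  | 0, r => auxE6.w 1 r
  | 1, r => auxE6.w 3 r
  | 2, r => auxE6.w 2 (auxE6.w 4 r)
  | _, r => auxE6.w 0 (auxE6.w 5 r)

/-- the image of a root under a relative Weyl word -/
def appG : List ℕ → ℕ → ℕ
  | [], r => r
  | k :: w, r => gW k (appG w r)

theorem simpleNeg : (chevE6.neg 46 = 25 ∧ chevE6.neg 39 = 32) ∧
    (chevE6.neg 42 = 29 ∧ chevE6.neg 37 = 34 ∧ chevE6.neg 56 = 15 ∧ chevE6.neg 36 = 35) ∧
    (chkNoTerms chevE6 42 37 = true ∧ chkNoTerms chevE6 42 (chevE6.neg 37) = true ∧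
      chkNoTerms chevE6 (chevE6.neg 42) 37 = true) ∧
    (chkNoTerms chevE6 56 36 = true ∧ chkNoTerms chevE6 56 (chevE6.neg 36) = true ∧
      chkNoTerms chevE6 (chevE6.neg 56) 36 = true) ∧
    (chevE6.simple 0 = 56 ∧ chevE6.simple 1 = 46 ∧ chevE6.simple 2 = 42 ∧ chevE6.simple 3 = 39 ∧
      chevE6.simple 4 = 37 ∧ chevE6.simple 5 = 36) := by decide +kernel

variable {K : Type*} [Field K] [Fintype K] {q : ℕ} (hq : IsPrimePow q) (hK : Fintype.card K = q ^ 2)

include hq hK in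
theorem neg_one_pow_q : (-1 : K) ^ q = -1 := by
  rw [← frE6_apply hq hK, map_neg, map_one]

theorem single_lift {r r' : ℕ} (hr : r ∈ [Cfsg.Lie.e6p2, Cfsg.Lie.e6m2, Cfsg.Lie.e6p4, Cfsg.Lie.e6m4])
    (hr' : r' ∈ [Cfsg.Lie.e6p2, Cfsg.Lie.e6m2, Cfsg.Lie.e6p4, Cfsg.Lie.e6m4]) (hn : chevE6.neg r = r') :
    (chevRel certE6 K).ne r 1 ∈ Tg hq hK := by
  show xG certE6 K r 1 * xG certE6 K (chevE6.neg r) (-(1 : K)⁻¹) * xG certE6 K r 1 ∈
    (Cfsg.Lie.twistedE6 K q).subgroupOf (chevE6.group K)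
  rw [hn, inv_one]
  exact mul_mem (mul_mem (wordE6_single_mem hr (one_pow q)) (wordE6_single_mem hr' (neg_one_pow_q hq hK)))
    (wordE6_single_mem hr (one_pow q))

theorem pair_lift {a b a' b' : ℕ}
    (hab : (a, b) ∈ [(Cfsg.Lie.e6p1, Cfsg.Lie.e6p6), (Cfsg.Lie.e6m1, Cfsg.Lie.e6m6),
      (Cfsg.Lie.e6p3, Cfsg.Lie.e6p5), (Cfsg.Lie.e6m3, Cfsg.Lie.e6m5)])
    (hab' : (a', b') ∈ [(Cfsg.Lie.e6p1, Cfsg.Lie.e6p6), (Cfsg.Lie.e6m1, Cfsg.Lie.e6m6),
      (Cfsg.Lie.e6p3, Cfsg.Lie.e6p5), (Cfsg.Lie.e6m3, Cfsg.Lie.e6m5)])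
    (ha : chevE6.neg a = a') (hb : chevE6.neg b = b') (c1 : chkNoTerms chevE6 a b = true)
    (c2 : chkNoTerms chevE6 a (chevE6.neg b) = true) (c3 : chkNoTerms chevE6 (chevE6.neg a) b = true) :
    (chevRel certE6 K).ne a 1 * (chevRel certE6 K).ne b 1 ∈ Tg hq hK := by
  show _ ∈ (Cfsg.Lie.twistedE6 K q).subgroupOf (chevE6.group K)
  rw [← ne_pair certE6 c1 c2 c3, ha, hb, inv_one]
  have h1 := wordE6_pair_mem (K := K) (q := q) hab 1
  have h2 := wordE6_pair_mem (K := K) (q := q) hab' (-1)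
  rw [one_pow] at h1
  rw [neg_one_pow_q hq hK] at h2
  exact mul_mem (mul_mem h1 h2) h1

theorem exists_gen_lift (k : ℕ) : ∃ n : (chevRel certE6 K).NS, (n : ↥(chevE6.group K)) ∈ Tg hq hK ∧
    ∀ r : Rt, (((chevRel certE6 K).nsPerm n r : Rt) : ℕ) = gW k r := by
  obtain ⟨⟨n2, n4⟩, ⟨n3, n5, n1, n6⟩, ⟨a1, a2, a3⟩, ⟨b1, b2, b3⟩, ⟨s0, s1, s2, s3, s4, s5⟩⟩ := simpleNeg
  match k with
  | 0 =>
    refine ⟨(chevRel certE6 K).nS ⟨1, by decide⟩, ?_, fun r => ?_⟩
    · show (chevRel certE6 K).ne (chevE6.simple 1) 1 ∈ _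
      rw [s1]; exact single_lift hq hK (by decide) (by decide) n2
    · rw [(chevRel certE6 K).nsPerm_nS, (chevRel certE6 K).wperm_apply]; rfl
  | 1 =>
    refine ⟨(chevRel certE6 K).nS ⟨3, by decide⟩, ?_, fun r => ?_⟩
    · show (chevRel certE6 K).ne (chevE6.simple 3) 1 ∈ _
      rw [s3]; exact single_lift hq hK (by decide) (by decide) n4
    · rw [(chevRel certE6 K).nsPerm_nS, (chevRel certE6 K).wperm_apply]; rfl
  | 2 =>
    refine ⟨(chevRel certE6 K).nS ⟨2, by decide⟩ * (chevRel certE6 K).nS ⟨4, by decide⟩, ?_, fun r => ?_⟩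
    · show (chevRel certE6 K).ne (chevE6.simple 2) 1 * (chevRel certE6 K).ne (chevE6.simple 4) 1 ∈ _
      rw [s2, s4]; exact pair_lift hq hK (by decide) (by decide) n3 n5 a1 a2 a3
    · rw [map_mul, Equiv.Perm.mul_apply, (chevRel certE6 K).nsPerm_nS, (chevRel certE6 K).nsPerm_nS,
        (chevRel certE6 K).wperm_apply, (chevRel certE6 K).wperm_apply]
      rfl
  | k + 3 =>
    refine ⟨(chevRel certE6 K).nS ⟨0, by decide⟩ * (chevRel certE6 K).nS ⟨5, by decide⟩, ?_, fun r => ?_⟩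
    · show (chevRel certE6 K).ne (chevE6.simple 0) 1 * (chevRel certE6 K).ne (chevE6.simple 5) 1 ∈ _
      rw [s0, s5]; exact pair_lift hq hK (by decide) (by decide) n1 n6 b1 b2 b3
    · rw [map_mul, Equiv.Perm.mul_apply, (chevRel certE6 K).nsPerm_nS, (chevRel certE6 K).nsPerm_nS,
        (chevRel certE6 K).wperm_apply, (chevRel certE6 K).wperm_apply]
      rfl

theorem exists_lift : ∀ w : List ℕ, ∃ n : (chevRel certE6 K).NS, (n : ↥(chevE6.group K)) ∈ Tg hq hK ∧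
    ∀ r : Rt, (((chevRel certE6 K).nsPerm n r : Rt) : ℕ) = appG w r
  | [] => ⟨1, one_mem _, fun r => by simp [appG]⟩
  | k :: w => by
    obtain ⟨n, hn, hn'⟩ := exists_lift w
    obtain ⟨m, hm, hm'⟩ := exists_gen_lift hq hK k
    refine ⟨m * n, mul_mem hm hn, fun r => ?_⟩
    rw [map_mul, Equiv.Perm.mul_apply, hm', hn']
    rfl

/-- every non-trivial character of the long simple family `i` occurs on a vector fixed by the rest -/
def HasVec {V : Type*} [AddCommGroup V] [Module ℂ V] (ρ : Representation ℂ ↥(Tg hq hK) V) (i : Rt) : Prop :=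
  ∀ χ : AddChar ↥(P hq hK i) ℂ, χ ≠ 0 → ∃ v, v ≠ 0 ∧ FixV ρ (SG hq hK (rest i)) v ∧ Eig ρ (Z hq hK i) χ v

theorem Z_injective (r : Rt) : Function.Injective (Z hq hK r) := fun t u e => by
  have hfr : fr hq hK r 0 = 0 := by simp [fr]
  have h : zval hq hK r ((t - u : ↥(P hq hK r)) : K) =
      xG certE6 K r (0 : K) * xG certE6 K (bar r) (0 : K) := by
    rw [← Z_val hq hK r (t - u), sub_eq_add_neg, AddChar.map_add_eq_mul, e, ← AddChar.map_add_eq_mul,
      add_neg_cancel, AddChar.map_zero_eq_one, OneMemClass.coe_one, xG_zero, xG_zero, one_mul]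
  have h2 := Z_coord hq hK h
  rw [add_zero, ite_self] at h2
  exact sub_eq_zero.1 (Subtype.ext h2)

/-- monomial elements move the families -/
theorem conj_Z {n : (chevRel certE6 K).NS} (hn : (n : ↥(chevE6.group K)) ∈ Tg hq hK) {r s : Rt}
    (e : (chevRel certE6 K).nsPerm n r = s) (hcard : Nat.card ↥(P hq hK r) = Nat.card ↥(P hq hK s)) :
    ∃ φ : ↥(P hq hK r) →+ ↥(P hq hK s), Function.Bijective φ ∧ ∀ t,
      (⟨n, hn⟩ : ↥(Tg hq hK)) * Z hq hK r t * (⟨n, hn⟩ : ↥(Tg hq hK))⁻¹ = Z hq hK s (φ t) := by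
  have ex : ∀ t, ∃ w, (⟨n, hn⟩ : ↥(Tg hq hK)) * Z hq hK r t * (⟨n, hn⟩ : ↥(Tg hq hK))⁻¹ = Z hq hK s w :=
    fun t => exists_Z hq hK (e ▸ conj_orb hq hK hn (Z_mem_SG hq hK le_rfl t))
  choose f hf using ex
  have hinj : Function.Injective f := fun t u h => Z_injective hq hK r (by
    have := (hf t).trans ((congrArg _ h).trans (hf u).symm)
    exact mul_left_cancel (mul_right_cancel this))
  have hadd : ∀ t u, f (t + u) = f t + f u := fun t u => Z_injective hq hK s (by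
    rw [AddChar.map_add_eq_mul, ← hf, ← hf, ← hf, AddChar.map_add_eq_mul]
    group)
  exact ⟨AddMonoidHom.mk' f hadd, (Nat.bijective_iff_injective_and_card f).2 ⟨hinj, hcard⟩, hf⟩

/-- the data of a cell -/
structure Cell where
  /-- the root -/
  γ : ℕ
  /-- the simple root -/
  i : ℕ
  /-- the relative word -/
  w : List ℕ
  /-- the pairs `(c, a)` -/
  items : List (ℕ × ℕ)

/-- the roots above the cell -/
def Cell.above (C : Cell) : List ℕ := List.range' (C.γ + 1) (chevE6.nroots - (C.γ + 1))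

/-- the exponent of the cell -/
def Cell.dim (C : Cell) : ℕ := (C.items.map fun p => if bar p.1 = p.1 then 1 else 2).sum

/-- the root comes from a positive root other than the simple one -/
def BaseOK (C : Cell) (x : ℕ) : Prop :=
  ∃ y ∈ List.range' (half chevE6) (half chevE6), y ≠ C.i ∧ appG C.w y = x

instance (C : Cell) (x : ℕ) : Decidable (BaseOK C x) := by unfold BaseOK; infer_instance

/-- the checks for a cell -/
def CellOK (C : Cell) : Prop :=
  (half chevE6 ≤ C.γ ∧ C.γ < chevE6.nroots ∧ bar C.γ = C.γ) ∧ (C.i ∈ [46, 39] ∧ appG C.w C.i = C.γ) ∧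
    (∀ x ∈ C.above, BaseOK C x) ∧ Nm C.γ C.above ∧
    (∀ p ∈ C.items, p.1 < chevE6.nroots ∧ p.2 < chevE6.nroots ∧ Nm p.2 C.above ∧ CT p.2 C.γ C.above ∧
      Pair p.2 p.1 C.γ ∧ BaseOK C p.1 ∧ BaseOK C (bar p.1)) ∧
    ∀ m < C.items.length, ∀ l < C.items.length, m = l ∨
      (CT (C.items.getD m (0, 0)).2 (C.items.getD l (0, 0)).1 C.above ∧ Nm (C.items.getD l (0, 0)).1 C.above)

instance (C : Cell) : Decidable (CellOK C) := by unfold CellOK; infer_instance

variable {V : Type*} [AddCommGroup V] [Module ℂ V] [FiniteDimensional ℂ V]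
  (ρ : Representation ℂ ↥(Tg hq hK) V)

theorem card_P (r : Rt) : Nat.card ↥(P hq hK r) = if bar r = r then q else q ^ 2 := by
  split_ifs with h
  · rw [P_fixed hq hK h, card_Fq]
  · rw [P_short hq hK h, AddSubgroup.card_top, Nat.card_eq_fintype_card, hK]

/-- the contribution of a cell -/
theorem cell_bound {C : Cell} (hC : CellOK C) {γ i : Rt} (eγ : (γ : ℕ) = C.γ) (ei : (i : ℕ) = C.i)
    (hv : HasVec hq hK ρ i) {χ : AddChar ↥(P hq hK γ) ℂ} (hχ : χ ≠ 0) {n : ℕ}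
    (hn : LinearMap.trace ℂ V (proj ρ (Z hq hK γ) χ (fixP ρ (SG hq hK (lset C.above)))) = n) :
    q ^ C.dim ≤ n := by
  classical
  obtain ⟨⟨hγ, hγ', hγf⟩, ⟨hi, hw⟩, habove, hNγ, hit, hoff⟩ := hC
  have hγb : bar γ = γ := by rw [eγ]; exact hγf
  have hib : bar i = i := by
    have key : ∀ x ∈ [46, 39], bar x = x := by decide +kernel
    rw [ei]; exact key _ hi
  obtain ⟨m, hm, hm'⟩ := exists_lift hq hK C.w
  have emi : (chevRel certE6 K).nsPerm m i = γ := Fin.ext (by rw [hm', ei, hw, eγ])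
  obtain ⟨φ, hφ, hφ'⟩ := conj_Z hq hK hm emi (by rw [card_P, card_P, if_pos hib, if_pos hγb])
  -- the base vector
  let χ0 : AddChar ↥(P hq hK i) ℂ := χ.compAddMonoidHom φ
  have hχ0 : χ0 ≠ 0 := fun e => hχ (DFunLike.ext _ _ fun t => by
    obtain ⟨u, rfl⟩ := hφ.2 t
    exact DFunLike.congr_fun e u)
  obtain ⟨v, hv0, hvf, hve⟩ := hv χ0 hχ0
  set g : ↥(Tg hq hK) := ⟨m, hm⟩ with hg
  have conj_rest : ∀ S : Set Rt, (∀ x ∈ S, BaseOK C (x : ℕ)) → ∀ h ∈ SG hq hK S,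
      ρ h (ρ g v) = ρ g v := by
    intro S hS h hh
    have h2 : g⁻¹ * h * g ∈ SG hq hK (rest i) := by
      obtain ⟨a, ha⟩ := (chevRel certE6 K).isMon_nsPerm m⁻¹
      have := Rel.IsMon.conj_mem_US (chevRel certE6 K) ha (T := rest i) (fun x hx => ?_) ((mem_SG hq hK).1 hh)
      · rw [mem_SG]
        simpa [hg] using this
      · obtain ⟨y, hy, hyi, hyx⟩ := hS x hx
        rw [List.mem_range'_1] at hy
        have hn2 : chevE6.nroots = half chevE6 + half chevE6 := by decide +kernel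
        have e1 : (chevRel certE6 K).nsPerm m ⟨y, by omega⟩ = x := Fin.ext (by rw [hm']; exact hyx)
        rw [map_inv, ← e1, show ((chevRel certE6 K).nsPerm m)⁻¹ ((chevRel certE6 K).nsPerm m ⟨y, by omega⟩) =
          ⟨y, by omega⟩ from Equiv.symm_apply_apply _ _]
        exact ⟨hy.1, by rw [ei]; exact hyi⟩
    rw [← app, show h * g = g * (g⁻¹ * h * g) by group, app, hvf _ h2]
  have hwγ : Eig ρ (Z hq hK γ) χ (ρ g v) := fun t => by
    obtain ⟨u, rfl⟩ := hφ.2 t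
    rw [← hφ' u, ← app, inv_mul_cancel_right, app, hve u, map_smul]
    rfl
  -- the families
  let c : Fin C.items.length → Rt := fun x => ⟨(C.items[x]).1, (hit _ (List.getElem_mem x.2)).1⟩
  let a : Fin C.items.length → Rt := fun x => ⟨(C.items[x]).2, (hit _ (List.getElem_mem x.2)).2.1⟩
  have hpair : ∀ x, Pair (a x) (c x) γ := fun x => by
    rw [eγ]; exact (hit _ (List.getElem_mem x.2)).2.2.2.2.1
  choose β he ha1 ha2 hs1 hs2 using fun x => (hpair x).spec hq hK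
  have hcard : ∀ x, Nat.card ↥(P hq hK (a x)) = Nat.card ↥(P hq hK (c x)) := fun x => by
    have : bar (a x) = a x ↔ bar (c x) = c x := by
      rcases hpair x with ⟨h1, h2, -⟩ | ⟨h1, h2, -⟩
      · exact iff_of_true h1 h2
      · exact iff_of_false h1 h2
    rw [card_P, card_P]
    by_cases h : bar (a x) = a x
    · rw [if_pos h, if_pos (this.1 h)]
    · rw [if_neg h, if_neg fun h' => h (this.2 h')]
  have := cell_le ρ (SG hq hK (lset C.above)) (Z hq hK γ) ?_ (fun x => Z hq hK (c x)) (fun x => Z hq hK (a x))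
    (fun x t s => β x s t) ?_ ?_ ?_ ?_ (fun x t s s' => ha1 x s s' t) (fun x t t' s => ha2 x s t t') χ ?_
    (app_ne_zero ρ g hv0) (fun h hh => conj_rest _ (fun x hx => habove _ hx) h hh) hwγ (fun x t => ?_) hn
  · refine le_trans (le_of_eq ?_) this
    rw [Cell.dim, ← Fin.sum_univ_fun_getElem, ← Finset.prod_pow_eq_pow_sum]
    refine Finset.prod_congr rfl fun x _ => ?_
    rw [← Nat.card_eq_fintype_card, hcard, card_P]
    by_cases h : bar (c x) = c x
    · rw [if_pos h]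
      exact (congrArg (q ^ ·) (if_pos h)).trans (pow_one q)
    · rw [if_neg h]
      exact congrArg (q ^ ·) (if_neg h)
  · exact fun t => Z_normalizer hq hK (eγ ▸ hNγ) t
  · exact fun x s => Z_normalizer hq hK (hit _ (List.getElem_mem x.2)).2.2.1 s
  · intro x s t
    exact swap_mod hq hK (eγ ▸ (hit _ (List.getElem_mem x.2)).2.2.2.1) (eγ ▸ hNγ)
      (hit _ (List.getElem_mem x.2)).2.2.1 s t
  · exact fun x s t => ⟨1, one_mem _, by rw [mul_one]; exact he x s t⟩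
  · intro x y hxy s t
    have h := (hoff x x.2 y y.2).resolve_left fun e => hxy (Fin.ext e)
    rw [List.getD_eq_getElem _ _ x.2, List.getD_eq_getElem _ _ y.2] at h
    exact swap_mod hq hK h.1 h.2 (hit _ (List.getElem_mem x.2)).2.2.1 s t
  · intro x s hs
    obtain ⟨w, hw⟩ : ∃ w, χ w ≠ 1 := by
      by_contra h
      push Not at h
      exact hχ (DFunLike.ext _ _ fun w => by rw [h, AddChar.zero_apply])
    obtain ⟨t, ht⟩ := hs1 x s hs w
    exact ⟨t, by rw [ht]; exact hw⟩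
  · refine conj_rest (orb (c x)) ?_ _ (Z_mem_SG hq hK le_rfl t)
    rintro z (rfl | rfl)
    · exact (hit _ (List.getElem_mem x.2)).2.2.2.2.2.1
    · exact (hit _ (List.getElem_mem x.2)).2.2.2.2.2.2

end CfsgLib.PLocal.RadTw
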