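/-
The sum of the contributions of the cells bounds the degree.
-/
import Cfsg.Agent.Lib.PLocal.RadTw.Cells

set_option autoImplicit false
set_option linter.unusedSectionVars false

namespace CfsgLib.PLocal.RadTw

open Module CfsgLib.Lie.Chev CfsgLib.Lie.Chev.TwGroups CfsgLib.PLocal CfsgLib.PLocal.Triality
open Cfsg.Lie (chevE6)

/-- the roots from `m` on -/
def upto (m : ℕ) : List ℕ := List.range' m (chevE6.nroots - m)

theorem mem_upto {m k : ℕ} : k ∈ upto m ↔ m ≤ k ∧ k < chevE6.nroots := by
  simp only [upto, List.mem_range'_1]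
  omega

variable {K : Type*} [Field K] [Fintype K] {q : ℕ} (hq : IsPrimePow q) (hK : Fintype.card K = q ^ 2)
variable {V : Type*} [AddCommGroup V] [Module ℂ V] [FiniteDimensional ℂ V]
  (ρ : Representation ℂ ↥(Tg hq hK) V)

/-- the sum over the cells bounds the degree -/
theorem count_le (h46 : HasVec hq hK ρ ⟨46, by decide +kernel⟩) (h39 : HasVec hq hK ρ ⟨39, by decide +kernel⟩) :
    ∀ cells : List Cell, (cells.map Cell.γ).Pairwise (· < ·) → (∀ C ∈ cells, CellOK C) →
      ∀ m, (∀ C ∈ cells, m ≤ C.γ) → ∀ e : ℕ,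
        LinearMap.trace ℂ V (fixP ρ (SG hq hK (lset (upto m)))) = e →
        e + (cells.map fun C => (q - 1) * q ^ C.dim).sum ≤ finrank ℂ V
  | [], _, _, m, _, e, he => by
    rw [trace_idem (fixP_idem ρ _), Nat.cast_inj] at he
    rw [List.map_nil, List.sum_nil, add_zero, ← he]
    exact Submodule.finrank_le _
  | C :: cells, hs, hall, m, hm, e, he => by
    classical
    rw [List.map_cons, List.pairwise_cons] at hs
    have hC := hall C List.mem_cons_self
    obtain ⟨⟨-, hγ', hγf⟩, ⟨hi, -⟩, -, hNm, -⟩ := hC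
    set γ : Rt := ⟨C.γ, hγ'⟩ with hγdef
    set N := SG hq hK (lset C.above) with hN
    have hN' : lset C.above = lset (upto (C.γ + 1)) := rfl
    have hc : ∀ t, Commute (ρ (Z hq hK γ t)) (fixP ρ N) := fun t => fixP_commute ρ (Z_normalizer hq hK hNm t)
    choose n hn using fun χ : AddChar ↥(P hq hK γ) ℂ =>
      (⟨_, trace_idem (proj_idem ρ (Z hq hK γ) χ (fixP_idem ρ N) hc)⟩ :
        ∃ n : ℕ, LinearMap.trace ℂ V (proj ρ (Z hq hK γ) χ (fixP ρ N)) = n)
    obtain ⟨e', he'⟩ : ∃ e' : ℕ, LinearMap.trace ℂ V (fixP ρ N) = e' := ⟨_, trace_idem (fixP_idem ρ N)⟩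
    have hsum : n 0 + ∑ χ ∈ Finset.univ.erase (0 : AddChar ↥(P hq hK γ) ℂ), n χ = e' := by
      apply Nat.cast_injective (R := ℂ)
      rw [Finset.add_sum_erase _ _ (Finset.mem_univ _), Nat.cast_sum, ← he',
        ← sum_proj ρ (Z hq hK γ) (P := fixP ρ N), map_sum]
      exact Finset.sum_congr rfl fun χ _ => (hn χ).symm
    have h1 : e ≤ n 0 := by
      refine trace_le (fixP_idem ρ _) (proj_idem ρ _ 0 (fixP_idem ρ N) hc) (fun v hv => ?_) he (hn 0)
      rw [fixP_apply_iff] at hv
      refine proj_apply_of_eigen ρ _ 0 ((fixP_apply_iff ρ N v).2 (hv.mono ρ (SG_mono hq hK ?_))) fun t => ?_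
      · intro r hr
        have := mem_upto.1 (show (r : ℕ) ∈ upto (C.γ + 1) from hr)
        exact mem_upto.2 ⟨by have := hm C List.mem_cons_self; omega, this.2⟩
      · rw [AddChar.zero_apply, one_smul]
        refine hv _ (Z_mem_SG hq hK ?_ t)
        intro r hr
        have hr' : (r : ℕ) = C.γ := by
          rcases hr with rfl | rfl
          · rfl
          · exact hγf
        exact mem_upto.2 ⟨by rw [hr']; exact hm C List.mem_cons_self, r.2⟩
    have hlow : (q - 1) * q ^ C.dim ≤ ∑ χ ∈ Finset.univ.erase (0 : AddChar ↥(P hq hK γ) ℂ), n χ := by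
      have hcard : Fintype.card ↥(P hq hK γ) = q := by
        rw [← Nat.card_eq_fintype_card, card_P, if_pos (show bar γ = γ from hγf)]
      have := Finset.card_nsmul_le_sum (Finset.univ.erase (0 : AddChar ↥(P hq hK γ) ℂ)) n (q ^ C.dim)
        fun χ hχ => by
          have hχ' := Finset.ne_of_mem_erase hχ
          rcases List.mem_cons.1 hi with h | h
          · exact cell_bound hq hK ρ (hall C List.mem_cons_self) (γ := γ) rfl (i := ⟨46, by decide +kernel⟩) h.symm h46
              hχ' (hn χ)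
          · exact cell_bound hq hK ρ (hall C List.mem_cons_self) (γ := γ) rfl (i := ⟨39, by decide +kernel⟩)
              (List.mem_singleton.1 h).symm h39 hχ' (hn χ)
      rwa [Finset.card_erase_of_mem (Finset.mem_univ _), Finset.card_univ, AddChar.card_eq, hcard, smul_eq_mul] at this
    have ih := count_le h46 h39 cells hs.2 (fun D hD => hall D (List.mem_cons_of_mem _ hD)) (C.γ + 1)
      (fun D hD => hs.1 _ (List.mem_map_of_mem hD)) e' (hN' ▸ he')
    rw [List.map_cons, List.sum_cons]
    omega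

end CfsgLib.PLocal.RadTw
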