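/-
Certificates for the degree bound of the twisted type E6: the cells.
-/
import Cfsg.Agent.Lib.PLocal.RadTw.Cells

set_option autoImplicit false
set_option maxHeartbeats 0
set_option maxRecDepth 20000

namespace CfsgLib.PLocal.RadTw

open CfsgLib.Lie.Chev Cfsg.Lie

/-- the cells, by increasing root -/
def cells : List Cell := [
  ⟨39, 39, [], []⟩,
  ⟨44, 39, [2], [(43, 37)]⟩,
  ⟨46, 46, [], []⟩,
  ⟨47, 39, [0], [(39, 46)]⟩,
  ⟨51, 39, [0, 2], [(50, 37), (44, 46)]⟩,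
  ⟨53, 39, [1, 0, 2], [(50, 40), (44, 47), (51, 39)]⟩,
  ⟨60, 39, [3, 2], [(59, 36), (58, 38)]⟩,
  ⟨63, 39, [0, 3, 2], [(62, 36), (61, 38), (60, 46)]⟩,
  ⟨65, 39, [1, 0, 3, 2], [(64, 36), (61, 41), (60, 47), (63, 39)]⟩,
  ⟨69, 39, [2, 1, 0, 3, 2], [(67, 38), (62, 45), (60, 51), (63, 44), (66, 42)]⟩,
  ⟨70, 39, [1, 2, 1, 0, 3, 2], [(67, 41), (64, 45), (60, 53), (65, 44), (66, 43), (69, 39)]⟩,
  ⟨71, 39, [0, 1, 2, 1, 0, 3, 2], [(67, 49), (64, 52), (63, 53), (65, 51), (66, 50), (69, 47), (70, 46)]⟩]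

theorem cellsOK : ∀ C ∈ cells, CellOK C := by decide +kernel

theorem cells_sorted : (cells.map Cell.γ).Pairwise (· < ·) := by decide +kernel

theorem cells_dims : cells.map Cell.dim = [0, 2, 0, 1, 3, 4, 4, 5, 6, 8, 9, 10] := by decide +kernel

end CfsgLib.PLocal.RadTw
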