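/-
The two numbers just below the bound of the twisted type E6 do not divide the order.
-/
import Cfsg.Agent.Lib.PLocal.Rad.Excl

set_option autoImplicit false
set_option maxHeartbeats 0
set_option maxRecDepth 20000

namespace CfsgLib.PLocal.RadTw

open CfsgLib.Lie.Chev (horner padd pmul cyclo pprod horner_padd horner_map horner_pmul horner_pprod horner_zero
  horner_cyclo)
open CfsgLib.PLocal.Rad (mono horner_mono horner_snoc divMod trimZ absSum horner_lt allB allB_spec skip not_skip)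

/-- the bound -/
def bT (q : ℕ) : ℕ := q * (q ^ 6 - q ^ 3 + 1) * (q ^ 4 + 1)

/-- its coefficients -/
def bTPoly : List ℤ := [0, 1, 0, 0, -1, 1, 0, 1, -1, 0, 0, 1]

theorem horner_bT {q : ℕ} (hq : 1 ≤ q) : horner (q : ℤ) bTPoly = (bT q : ℤ) := by
  have h : q ^ 3 ≤ q ^ 6 := Nat.pow_le_pow_right hq (by norm_num)
  rw [bT, Nat.cast_mul, Nat.cast_mul, Nat.cast_add, Nat.cast_add, Nat.cast_sub h]
  simp only [horner, bTPoly, Nat.cast_pow, Nat.cast_one]
  ring

/-- the part of the order prime to `q` -/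
def gT (q : ℕ) : ℕ :=
  (q ^ 2 - 1) * (q ^ 5 + 1) * (q ^ 6 - 1) * (q ^ 8 - 1) * (q ^ 9 + 1) * (q ^ 12 - 1)

/-- its coefficients -/
def gTPoly : List ℤ :=
  pprod [cyclo 2, padd [1] (mono 5), cyclo 6, cyclo 8, padd [1] (mono 9), cyclo 12]

theorem horner_gT {q : ℕ} (hq : 1 ≤ q) : horner (q : ℤ) gTPoly = (gT q : ℤ) := by
  have h1 : horner (q : ℤ) [1] = 1 := by simp [horner]
  simp only [gTPoly, horner_pprod, List.map_cons, List.map_nil, List.prod_cons, List.prod_nil, horner_cyclo,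
    horner_padd, horner_mono, h1]
  rw [gT]
  push_cast [Nat.cast_sub (Nat.one_le_pow _ q hq)]
  ring

/-- the remainder of `j` times the order by `bT q - j` is small and nonzero from `N0` on -/
def polyT (j N0 : ℕ) : Bool :=
  let P := padd bTPoly [-(j : ℤ)]
  let num := gTPoly.map ((j : ℤ) * ·)
  let AR := divMod P 11 num
  let R := trimZ AR.2
  (padd num ((padd (pmul AR.1 P) R).map (-1 * ·))).all (fun c => c == 0) &&
    !R.isEmpty && decide (R.length ≤ 11) && decide (j < N0) &&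
    decide (absSum N0 (R.map ((2 : ℤ) * ·)) < 1 * N0 ^ 11) &&
    decide (absSum N0 R.dropLast < (R.getLastD 0).natAbs * N0 ^ (R.length - 1))

theorem pow_le_two_bT {q j : ℕ} (hq : 2 ≤ q) (hj : j ≤ q) : q ^ 11 + 2 * j ≤ 2 * bT q := by
  rw [bT]
  have h : q ^ 3 ≤ q ^ 6 := Nat.pow_le_pow_right (by omega) (by norm_num)
  obtain ⟨g, hg⟩ := Nat.exists_eq_add_of_le h
  rw [hg, Nat.add_sub_cancel_left]
  have h2 : 2 * q ^ 3 ≤ q ^ 6 := by
    rw [show (6 : ℕ) = 3 + 3 from rfl, pow_add]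
    exact Nat.mul_le_mul_right _ (le_trans hq (Nat.le_self_pow (by norm_num) q))
  have h3 : q ^ 6 ≤ 2 * g := by omega
  calc q ^ 11 + 2 * j ≤ q * q ^ 6 * q ^ 4 + 2 * q := by
        rw [show q * q ^ 6 * q ^ 4 = q ^ 11 by ring]; omega
    _ ≤ q * (2 * g) * q ^ 4 + 2 * q :=
        Nat.add_le_add_right (Nat.mul_le_mul_right _ (Nat.mul_le_mul_left _ h3)) _
    _ ≤ 2 * (q * (g + 1) * (q ^ 4 + 1)) := by
        rw [show 2 * (q * (g + 1) * (q ^ 4 + 1)) = q * (2 * g) * q ^ 4 + 2 * q + (2 * q * g + 2 * q * q ^ 4) by ring]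
        exact Nat.le_add_right _ _

theorem not_dvd_of_polyT {j N0 q d : ℕ} (hj0 : 0 < j) (h : polyT j N0 = true) (hq : N0 ≤ q) (hd : d + j = bT q) :
    ¬ d ∣ j * gT q := by
  simp only [polyT, Bool.and_eq_true, decide_eq_true_eq, Bool.not_eq_true', List.all_eq_true, beq_iff_eq] at h
  obtain ⟨⟨⟨⟨⟨hid, hne⟩, hlen⟩, hj⟩, hsmall⟩, htop⟩ := h
  set R := trimZ (divMod (padd bTPoly [-(j : ℤ)]) 11 (gTPoly.map ((j : ℤ) * ·))).2 with hR
  set A := (divMod (padd bTPoly [-(j : ℤ)]) 11 (gTPoly.map ((j : ℤ) * ·))).1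
  intro hdvd
  have hq2 : 2 ≤ q := by omega
  have hP : horner (q : ℤ) (padd bTPoly [-(j : ℤ)]) = d := by
    rw [horner_padd, horner_bT (by omega), ← hd]
    simp [horner]
  have e := horner_zero (q : ℤ) _ hid
  simp only [horner_padd, horner_map, horner_pmul, horner_gT (show 1 ≤ q by omega)] at e
  rw [← horner_padd, hP] at e
  have hdR : (d : ℤ) ∣ horner (q : ℤ) R := by
    have h' : (d : ℤ) ∣ (j : ℤ) * (gT q : ℤ) := by exact_mod_cast Int.natCast_dvd_natCast.2 hdvd
    rw [show horner (q : ℤ) R = (j : ℤ) * (gT q : ℤ) - horner (q : ℤ) A * (d : ℤ) by linear_combination -e]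
    exact dvd_sub h' (dvd_mul_left _ _)
  have hlt := horner_lt (x := q) (cs := R.map ((2 : ℤ) * ·)) hq (by rw [List.length_map]; exact hlen) hsmall
  rw [horner_map, Int.natAbs_mul] at hlt
  simp only [Int.reduceAbs] at hlt
  have hqd : q ^ 11 ≤ 2 * d := by
    have := pow_le_two_bT (q := q) (j := j) hq2 (by omega)
    omega
  have h0 : horner (q : ℤ) R = 0 := Int.eq_zero_of_dvd_of_natAbs_lt_natAbs hdR (by
    rw [Int.natAbs_natCast]; omega)
  have hnil : R ≠ [] := by simpa [List.isEmpty_iff] using hne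
  have hlast : R.getLastD 0 = R.getLast hnil := by
    rw [List.getLastD_eq_getLast?, List.getLast?_eq_getLast hnil]; rfl
  have hsplit := horner_snoc (q : ℤ) R.dropLast (R.getLast hnil)
  rw [List.dropLast_append_getLast hnil, h0, List.length_dropLast] at hsplit
  have hlt2 := horner_lt (x := q) hq (le_of_eq List.length_dropLast) htop
  rw [show horner (q : ℤ) R.dropLast = -((q : ℤ) ^ (R.length - 1) * R.getLast hnil) by linarith,
    Int.natAbs_neg, Int.natAbs_mul, Int.natAbs_pow, Int.natAbs_natCast, hlast, mul_comm] at hlt2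
  exact lt_irrefl _ hlt2

/-- no exception at `q` -/
def smallT (j k q : ℕ) : Bool :=
  Nat.blt q 2 || skip k q [2, 3, 5, 7, 11, 13, 17, 19] || Nat.blt 0 ((q ^ 36 * gT q) % (bT q - j))

theorem excl {j N0 k : ℕ} (hk : N0 ≤ 2 ^ k) (hp : polyT j N0 = true) (hs : allB (smallT j k) k 0 = true)
    {q d : ℕ} (hq : IsPrimePow q) (hj : 0 < j) (hd : d + j = bT q) : ¬ d ∣ q ^ 36 * gT q := by
  intro hdvd
  by_cases hlt : q < 2 ^ k
  · have := allB_spec hs q (Nat.zero_le _) (by omega)
    have h2 := hq.two_le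
    simp only [smallT, not_skip hq hlt, Bool.or_false, Bool.or_eq_true, Nat.blt_eq] at this
    rcases this with h | h
    · omega
    · rw [show bT q - j = d by omega, Nat.mod_eq_zero_of_dvd hdvd] at h
      exact absurd h (lt_irrefl 0)
  have hjq : j < q := by
    have := hp
    simp only [polyT, Bool.and_eq_true, decide_eq_true_eq] at this
    omega
  refine not_dvd_of_polyT hj hp (by omega) hd ?_
  obtain ⟨p, f, hpp, hf, rfl⟩ := (isPrimePow_nat_iff q).1 hq
  have hqB : p ^ f ∣ bT (p ^ f) := by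
    rw [bT, mul_assoc]; exact dvd_mul_right _ _
  obtain ⟨e, -, he⟩ := (Nat.dvd_prime_pow hpp).1 (pow_mul p f 36 ▸ Nat.gcd_dvd_right d ((p ^ f) ^ 36))
  have hed : p ^ e ∣ d := he ▸ Nat.gcd_dvd_left _ _
  have hef : e < f := by
    by_contra hcon
    have h1 : p ^ f ∣ d := (Nat.pow_dvd_pow p (Nat.le_of_not_lt hcon)).trans hed
    rw [← hd, Nat.dvd_add_right h1] at hqB
    exact absurd (Nat.le_of_dvd hj hqB) (by omega)
  have hej : p ^ e ∣ j := by
    have := (Nat.pow_dvd_pow p hef.le).trans hqB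
    rwa [← hd, Nat.dvd_add_right hed] at this
  exact dvd_trans (Nat.dvd_gcd_mul_iff_dvd_mul.2 hdvd)
    (Nat.mul_dvd_mul_right (show Nat.gcd d ((p ^ f) ^ 36) ∣ j by rw [← pow_mul, he]; exact hej) _)

theorem poly1 : polyT 1 31 = true := by decide +kernel

theorem small1 : allB (smallT 1 5) 5 0 = true := by decide +kernel

theorem poly2 : polyT 2 113 = true := by decide +kernel

theorem small2 : allB (smallT 2 7) 7 0 = true := by decide +kernel

/-- neither degree divides the order -/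
theorem excl_all {q d : ℕ} (hq : IsPrimePow q) (hlt : d < bT q) (hge : bT q ≤ d + 2) : ¬ d ∣ q ^ 36 * gT q := by
  obtain h | h : d + 1 = bT q ∨ d + 2 = bT q := by omega
  · exact excl (by norm_num) poly1 small1 hq one_pos h
  · exact excl (by norm_num) poly2 small2 hq two_pos h

end CfsgLib.PLocal.RadTw
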