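/-
The derivation of the orbits fixing a line.
-/
import Cfsg.Agent.Lib.PLocal.RadTw.Fix
import Cfsg.Agent.Lib.PLocal.RadTw.Pair
import Cfsg.Agent.Lib.Lie.Rel.BorelTits

set_option autoImplicit false
set_option linter.unusedSectionVars false

namespace CfsgLib.PLocal.RadTw

open CfsgLib.Lie.Chev CfsgLib.Lie.Chev.TwGroups CfsgLib.PLocal
open Cfsg.Lie (chevE6)

/-- an orbit as a list -/
def cl (r : ℕ) : List ℕ := [r, bar r]

/-- two commuting orbits of positive roots -/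
def Split (k k' : ℕ) : Prop :=
  (∀ a ∈ cl k ++ cl k', half chevE6 ≤ a) ∧ (∀ a ∈ cl k, a ∉ cl k') ∧
    (∀ a ∈ cl k, ∀ b ∈ cl k', Rad.Terms chevE6 a b []) ∧
    (∀ a ∈ cl k, ∀ b ∈ cl k, chevE6.commTerms a b = []) ∧ ∀ a ∈ cl k', ∀ b ∈ cl k', chevE6.commTerms a b = []

instance (k k' : ℕ) : Decidable (Split k k') := by unfold Split; infer_instance

/-- the orbit of `r` and that of `m` commute modulo orbits in `fx` -/
def Ok (fx : List ℕ) (r m : ℕ) : Prop :=
  CT r m [] ∨ (∃ k ∈ fx, k < chevE6.nroots ∧ CT r m (cl k) ∧ Nm r (cl k) ∧ Nm m (cl k)) ∨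
    ∃ k ∈ fx, ∃ k' ∈ fx, k < chevE6.nroots ∧ k' < chevE6.nroots ∧
      (CT r m (cl k ++ cl k') ∧ Nm r (cl k ++ cl k') ∧ Nm m (cl k ++ cl k')) ∧ Split k k'

instance (fx : List ℕ) (r m : ℕ) : Decidable (Ok fx r m) := by unfold Ok; infer_instance

/-- a step of the derivation -/
inductive Step
  /-- the orbit of `k` comes from two known orbits -/
  | comm (k a b : ℕ)
  /-- the orbit preserves the line -/
  | stab (r : ℕ)

/-- running the derivation -/
def run (ms : List ℕ) : List Step → List ℕ → List ℕ → Option (List ℕ)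
  | [], fx, _ => some fx
  | Step.comm k a b :: s, fx, st =>
      if (Pair a b k ∨ Pair b a k) ∧ (k < chevE6.nroots ∧ a < chevE6.nroots ∧ b < chevE6.nroots) ∧
          (a ∈ fx ∨ a ∈ st) ∧ (b ∈ fx ∨ b ∈ st) then run ms s (cl k ++ fx) st else none
  | Step.stab r :: s, fx, st =>
      if r < chevE6.nroots ∧ ∀ m ∈ ms, Ok fx r m then run ms s fx (cl r ++ st) else none

variable {K : Type*} [Field K] [Fintype K] {q : ℕ} (hq : IsPrimePow q) (hK : Fintype.card K = q ^ 2)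

theorem lset_cl (r : Rt) : lset (cl r) = orb r := by
  ext s
  simp only [lset, cl, orb, Set.mem_setOf_eq, List.mem_cons, List.not_mem_nil, or_false, Set.mem_insert_iff,
    Set.mem_singleton_iff, Fin.ext_iff]
  rfl

theorem orb_of_mem_cl {k : Rt} {s : Rt} (h : (s : ℕ) ∈ cl k) : orb s = orb k := by
  have h' : s ∈ lset (cl k) := h
  rw [lset_cl] at h'
  rcases h' with rfl | rfl
  · rfl
  · exact orb_barF k

theorem mem_SG_nil {g : ↥(Tg hq hK)} (hg : g ∈ SG hq hK (lset [])) : g = 1 := by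
  have h : (chevRel certE6 K).US (lset []) ≤ ⊥ :=
    (Subgroup.closure_le _).2 fun x ⟨s, hs, _⟩ => absurd hs List.not_mem_nil
  exact Subtype.ext (Subgroup.mem_bot.1 (h hg))

theorem nm_nil (a : ℕ) : Nm a [] := fun _ h => absurd h List.not_mem_nil

theorem commute_of_CT {a b : Rt} (h : CT a b []) (t : ↥(P hq hK a)) (u : ↥(P hq hK b)) :
    Commute (Z hq hK a t) (Z hq hK b u) := by
  obtain ⟨p, hp, e⟩ := swap_mod hq hK h (nm_nil _) (nm_nil _) t u
  rw [mem_SG_nil hq hK hp, mul_one] at e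
  exact e.symm

theorem σ_US {l : List ℕ} (hl : ∀ a ∈ l, bar a ∈ l) {g : ↥(chevE6.group K)}
    (hg : g ∈ (chevRel certE6 K).US (lset l)) : σE6 hq hK g ∈ (chevRel certE6 K).US (lset l) := by
  have h : (chevRel certE6 K).US (lset l) ≤ ((chevRel certE6 K).US (lset l)).comap (σE6 hq hK) :=
    (Subgroup.closure_le _).2 fun x ⟨s, hs, t, e⟩ => by
      rw [e]
      show σE6 hq hK (xG certE6 K s t) ∈ (chevRel certE6 K).US (lset l)
      rw [σ_xG]
      exact xG_mem_lset (hl _ hs) _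
  exact h hg

theorem bar_mem_cl {k a : ℕ} (hk : k < chevE6.nroots) (ha : a ∈ cl k) : bar a ∈ cl k := by
  rcases List.mem_cons.1 ha with rfl | ha
  · exact List.mem_cons_of_mem _ List.mem_cons_self
  · rw [List.mem_singleton.1 ha, (basicOK k hk).2.1]
    exact List.mem_cons_self

/-- fixed elements supported on two commuting orbits -/
theorem split_mem {k k' : Rt} (h : Split k k') {g : ↥(Tg hq hK)}
    (hg : g ∈ SG hq hK (lset (cl k ++ cl k'))) :
    ∃ g1 ∈ SG hq hK (orb k), ∃ g2 ∈ SG hq hK (orb k'), g = g1 * g2 := by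
  obtain ⟨hpos, hdis, hcomm, hc1, hc2⟩ := h
  set A := (chevRel certE6 K).US (lset (cl k)) with hA
  set B := (chevRel certE6 K).US (lset (cl k')) with hB
  have hAB : A ≤ Subgroup.centralizer (B : Set _) := by
    refine (Subgroup.closure_le _).2 fun x ⟨s, hs, t, e⟩ => ?_
    rw [SetLike.mem_coe, Subgroup.mem_centralizer_iff]
    intro y hy
    induction hy using Subgroup.closure_induction with
    | mem y hy =>
      obtain ⟨r, hr, u, e'⟩ := hy
      rw [e, e']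
      exact (xG_commute_of_terms (hcomm _ hs _ hr) t u).eq.symm
    | one => simp
    | mul y z _ _ hy hz => exact ((Commute.mul_left (hy : Commute y x) hz)).eq
    | inv y _ hy => exact ((Commute.inv_left (hy : Commute y x))).eq
  have hco : ∀ a ∈ A, ∀ b ∈ B, Commute a b := fun a ha b hb =>
    (Subgroup.mem_centralizer_iff.1 (hAB ha) b hb).symm
  obtain ⟨a, ha, b, hb, e⟩ : ∃ a ∈ A, ∃ b ∈ B, (g : ↥(chevE6.group K)) = a * b := by
    have h := (mem_SG hq hK).1 hg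
    revert h
    generalize (g : ↥(chevE6.group K)) = x
    intro h
    induction h using Subgroup.closure_induction with
    | mem x hx =>
      obtain ⟨s, hs, t, e⟩ := hx
      rw [e]
      rcases List.mem_append.1 hs with h | h
      · exact ⟨_, (chevRel certE6 K).xe_mem_US h t, 1, one_mem _, (mul_one _).symm⟩
      · exact ⟨1, one_mem _, _, (chevRel certE6 K).xe_mem_US h t, (one_mul _).symm⟩
    | one => exact ⟨1, one_mem _, 1, one_mem _, (one_mul 1).symm⟩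
    | mul x y _ _ hx hy =>
      obtain ⟨a, ha, b, hb, rfl⟩ := hx
      obtain ⟨a', ha', b', hb', rfl⟩ := hy
      refine ⟨a * a', mul_mem ha ha', b * b', mul_mem hb hb', ?_⟩
      rw [mul_assoc, mul_assoc, ← mul_assoc b a', (hco a' ha' b hb).eq.symm, mul_assoc]
    | inv x _ hx =>
      obtain ⟨a, ha, b, hb, rfl⟩ := hx
      exact ⟨a⁻¹, inv_mem ha, b⁻¹, inv_mem hb, by rw [mul_inv_rev, ((hco a ha b hb).inv_inv).eq]⟩
  have hσ : σE6 hq hK (g : ↥(chevE6.group K)) = g := (twE6 hq hK).hfix _ g.2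
  rw [e, map_mul] at hσ
  have hbarA : ∀ x ∈ cl (k : ℕ), bar x ∈ cl (k : ℕ) := fun x hx => bar_mem_cl k.2 hx
  have hbarB : ∀ x ∈ cl (k' : ℕ), bar x ∈ cl (k' : ℕ) := fun x hx => bar_mem_cl k'.2 hx
  have e2 : a⁻¹ * σE6 hq hK a = b * (σE6 hq hK b)⁻¹ := by
    rw [inv_mul_eq_iff_eq_mul, ← mul_assoc, eq_mul_inv_iff_mul_eq]
    exact hσ
  have hcl : ∀ m : ℕ, (∀ x ∈ cl m, half chevE6 ≤ x) → (∀ x ∈ cl m, ∀ y ∈ cl m, chevE6.commTerms x y = []) →
      PosClosed chevE6 (lset (cl m)) := fun m hm hm' =>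
    ⟨fun r hr => hm _ hr, fun r hr s hs c hc _ => by rw [hm' _ hr _ hs] at hc; exact absurd hc List.not_mem_nil⟩
  have hz := (chevRel certE6 K).US_inf_closed (hcl k (fun x hx => hpos x (List.mem_append_left _ hx)) hc1)
    (hcl k' (fun x hx => hpos x (List.mem_append_right _ hx)) hc2)
    (mul_mem (inv_mem ha) (σ_US hq hK hbarA ha)) (e2 ▸ mul_mem hb (inv_mem (σ_US hq hK hbarB hb)))
  have hempty : lset (cl k) ∩ lset (cl k') = lset [] := by
    ext r
    exact ⟨fun hr => absurd hr.2 (hdis _ hr.1), fun hr => absurd hr List.not_mem_nil⟩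
  rw [hempty] at hz
  have h1 : a⁻¹ * σE6 hq hK a = 1 := Subgroup.mem_bot.1 ((show (chevRel certE6 K).US (lset []) ≤ ⊥ from
    (Subgroup.closure_le _).2 fun x ⟨s, hs, _⟩ => absurd hs List.not_mem_nil) hz)
  have hσa : σE6 hq hK a = a := (inv_mul_eq_one.1 h1).symm
  have hσb : σE6 hq hK b = b := by
    rw [e2, mul_inv_eq_one] at h1
    exact h1.symm
  rw [hA, lset_cl] at ha
  rw [hB, lset_cl] at hb
  exact ⟨⟨a, mem_Tg_of_fixed hq hK ha hσa⟩, ha, ⟨b, mem_Tg_of_fixed hq hK hb hσb⟩, hb, Subtype.ext e⟩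

variable {V : Type*} [AddCommGroup V] [Module ℂ V] [FiniteDimensional ℂ V]
  (ρ : Representation ℂ ↥(Tg hq hK) V)

/-- the listed orbits fix `v` -/
def OrbFix (fx : List ℕ) (v : V) : Prop := ∀ r : Rt, (r : ℕ) ∈ fx → ∀ g ∈ SG hq hK (orb r), ρ g v = v

/-- the listed orbits act by scalars on `v` -/
def OrbScal (st : List ℕ) (v : V) : Prop :=
  ∀ r : Rt, (r : ℕ) ∈ st → ∀ g ∈ SG hq hK (orb r), ∃ c : ℂ, ρ g v = c • v

theorem OrbFix.cl_append {fx : List ℕ} {v : V} (h : OrbFix hq hK ρ fx v) {k : Rt}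
    (hk : ∀ g ∈ SG hq hK (orb k), ρ g v = v) : OrbFix hq hK ρ (cl k ++ fx) v := fun r hr => by
  rcases List.mem_append.1 hr with hr | hr
  · rw [orb_of_mem_cl hr]; exact hk
  · exact h r hr

/-- orbits commuting modulo fixed orbits commute on the vector -/
theorem Ok.move {fx : List ℕ} {r m : Rt} (h : Ok fx r m) {v : V} (hv : OrbFix hq hK ρ fx v) (t : ↥(P hq hK r))
    (u : ↥(P hq hK m)) : ρ (Z hq hK m u) (ρ (Z hq hK r t) v) = ρ (Z hq hK r t) (ρ (Z hq hK m u) v) := by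
  have key : ∀ p, Z hq hK m u * Z hq hK r t = Z hq hK r t * Z hq hK m u * p → ρ p v = v →
      ρ (Z hq hK m u) (ρ (Z hq hK r t) v) = ρ (Z hq hK r t) (ρ (Z hq hK m u) v) := fun p e hp => by
    rw [← app, e, app, app, hp]
  rcases h with h | ⟨k, hkm, hk, h, hr', hm'⟩ | ⟨k, hkm, k', hk'm, hk, hk', ⟨h, hr', hm'⟩, hsp⟩
  · obtain ⟨p, hp, e⟩ := swap_mod hq hK h (nm_nil _) (nm_nil _) t u
    exact key p e (by rw [mem_SG_nil hq hK hp, map_one]; rfl)
  · obtain ⟨p, hp, e⟩ := swap_mod hq hK h hm' hr' t u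
    refine key p e (hv ⟨k, hk⟩ hkm p ?_)
    rwa [← lset_cl]
  · obtain ⟨p, hp, e⟩ := swap_mod hq hK h hm' hr' t u
    refine key p e ?_
    obtain ⟨g1, h1, g2, h2, rfl⟩ := split_mem hq hK (k := ⟨k, hk⟩) (k' := ⟨k', hk'⟩) hsp hp
    rw [app, hv _ hk'm g2 h2, hv _ hkm g1 h1]

theorem fix_of_scalars {a b k : Rt} (hab : Pair a b k) {v : V} (hv0 : v ≠ 0)
    (ha : ∀ g ∈ SG hq hK (orb a), ∃ c : ℂ, ρ g v = c • v) (hb : ∀ g ∈ SG hq hK (orb b), ∃ c : ℂ, ρ g v = c • v) :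
    ∀ g ∈ SG hq hK (orb k), ρ g v = v := by
  intro g hg
  obtain ⟨w, rfl⟩ := exists_Z hq hK hg
  obtain ⟨β, he, -, -, hs, -⟩ := hab.spec hq hK
  obtain ⟨t, ht⟩ := hs ⟨1, P_one hq hK⟩ (fun e => one_ne_zero (α := K) (congrArg Subtype.val e)) w
  obtain ⟨c1, h1⟩ := ha _ (Z_mem_SG hq hK le_rfl ⟨1, P_one hq hK⟩)
  obtain ⟨c2, h2⟩ := hb _ (Z_mem_SG hq hK le_rfl t)
  have e' := congrArg (fun x => ρ x v) (he ⟨1, P_one hq hK⟩ t)
  simp only [app, ht, h1, h2, map_smul, smul_smul] at e'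
  refine app_inj ρ (Z hq hK b t) (app_inj ρ (Z hq hK a ⟨1, P_one hq hK⟩) ?_)
  rw [← e', h2, map_smul, h1, smul_smul, mul_comm]

/-- soundness of the derivation -/
theorem run_sound (ms : List ℕ) {v : V} (hv0 : v ≠ 0)
    (huniv : ∀ fx : List ℕ, OrbFix hq hK ρ fx v → ∀ r : Rt, (∀ m ∈ ms, Ok fx r m) → ∀ t,
      ∃ c : ℂ, ρ (Z hq hK r t) v = c • v) :
    ∀ (s : List Step) (fx st res : List ℕ), run ms s fx st = some res →
      OrbFix hq hK ρ fx v → OrbScal hq hK ρ st v → OrbFix hq hK ρ res v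
  | [], fx, st, res, h, hf, _ => by
    simp only [run, Option.some.injEq] at h
    rw [← h]; exact hf
  | Step.comm k a b :: s, fx, st, res, h, hf, hs => by
    simp only [run] at h
    split_ifs at h with hc
    obtain ⟨hp, ⟨hk, hal, hbl⟩, ha, hb⟩ := hc
    have sc : ∀ x : Rt, (x : ℕ) ∈ fx ∨ (x : ℕ) ∈ st → ∀ g ∈ SG hq hK (orb x), ∃ c : ℂ, ρ g v = c • v := by
      rintro x (hx | hx) g hg
      · exact ⟨1, by rw [one_smul]; exact hf x hx g hg⟩
      · exact hs x hx g hg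
    refine run_sound ms hv0 huniv s _ st res h (hf.cl_append hq hK ρ (k := ⟨k, hk⟩) ?_) hs
    rcases hp with hp | hp
    · exact fix_of_scalars hq hK ρ (a := ⟨a, hal⟩) (b := ⟨b, hbl⟩) hp hv0 (sc _ ha) (sc _ hb)
    · exact fix_of_scalars hq hK ρ (a := ⟨b, hbl⟩) (b := ⟨a, hal⟩) hp hv0 (sc _ hb) (sc _ ha)
  | Step.stab r :: s, fx, st, res, h, hf, hs => by
    simp only [run] at h
    split_ifs at h with hc
    obtain ⟨hr, hok⟩ := hc
    refine run_sound ms hv0 huniv s fx _ res h hf fun x hx g hg => ?_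
    rcases List.mem_append.1 hx with hx | hx
    · rw [orb_of_mem_cl (k := ⟨r, hr⟩) hx] at hg
      obtain ⟨t, rfl⟩ := exists_Z hq hK hg
      exact huniv fx hf ⟨r, hr⟩ hok t
    · exact hs x hx g hg

end CfsgLib.PLocal.RadTw
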