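/-
Certificates at the top of the twisted type E6.
-/
import Cfsg.Agent.Lib.PLocal.RadTw.Run
import Cfsg.Agent.Lib.PLocal.RadTw.Cells

set_option autoImplicit false
set_option maxHeartbeats 0
set_option maxRecDepth 20000

namespace CfsgLib.PLocal.RadTw

open CfsgLib.Lie.Chev CfsgLib.PLocal
open Cfsg.Lie (chevE6)

/-- the highest root -/
def rz : Rt := ⟨71, by decide +kernel⟩
/-- the next root -/
def ry : Rt := ⟨70, by decide +kernel⟩
/-- their difference -/
def rx : Rt := ⟨46, by decide +kernel⟩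
/-- the other long simple root -/
def rx' : Rt := ⟨39, by decide +kernel⟩

/-- the pairs `(a, μ)` with `a + μ = y` -/
def Mp : List (Rt × Rt) :=
  [(⟨39, by decide +kernel⟩, ⟨69, by decide +kernel⟩), (⟨43, by decide +kernel⟩, ⟨66, by decide +kernel⟩),
   (⟨58, by decide +kernel⟩, ⟨55, by decide +kernel⟩), (⟨44, by decide +kernel⟩, ⟨65, by decide +kernel⟩),
   (⟨59, by decide +kernel⟩, ⟨54, by decide +kernel⟩), (⟨60, by decide +kernel⟩, ⟨53, by decide +kernel⟩)]

/-- the roots at which the line is tested -/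
def topRoots : List ℕ := 71 :: 70 :: Mp.map fun p => (p.2 : ℕ)

/-- the derivation -/
def script : List Step :=
  [.stab 14, .stab 15, .stab 29, .stab 36, .stab 37, .stab 38, .stab 46, .stab 47, .stab 48, .stab 49, .stab 51,
   .stab 52, .stab 63, .comm 15 14 42, .comm 29 14 56, .comm 47 14 61, .comm 48 14 62, .comm 14 15 29,
   .comm 42 15 57, .comm 51 15 62, .stab 11, .comm 46 11 63, .comm 49 29 52, .comm 56 29 57, .comm 38 36 37,
   .comm 63 36 62, .stab 27, .comm 62 37 61, .stab 12, .stab 13, .stab 28, .stab 32, .comm 11 12 35,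
   .comm 13 12 37, .comm 27 12 56, .comm 31 12 57, .comm 12 13 34, .comm 32 13 57]

/-- the roots known to fix the line -/
def known : List ℕ := cl 71 ++ Mp.flatMap fun p => cl p.2

/-- the word sending `y` to the simple root -/
def wTop : List ℕ := [1, 2, 1, 3, 2, 1]

/-- the roots derived -/
def derived : List ℕ := (run topRoots script known []).getD []

theorem topPairs :
    (Pair rx ry rz ∧ CT rx rz [] ∧ CT ry rz [] ∧ bar rz = rz ∧ bar ry = ry ∧ bar rx = rx ∧ bar rx' = rx') ∧
      (Mp.map Prod.snd).Nodup ∧ ((Mp.map fun p => if bar p.2 = p.2 then 1 else 2).sum = 9) ∧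
      ∀ p ∈ Mp, Pair p.1 p.2 ry ∧ CT p.1 rz [] ∧ CT p.1 ry [] ∧ CT p.2 rz [] ∧ CT p.2 ry [] ∧
        ∀ p' ∈ Mp, p' = p ∨ (CT p.1 p'.2 [] ∧ CT p.2 p'.2 []) := by decide +kernel

theorem topTarget : appG [0] 70 = 71 ∧ appG wTop 70 = 46 ∧
    ∀ x ∈ List.range' (half chevE6) (chevE6.nroots - half chevE6), x ≠ 46 →
      appG wTop.reverse x ∈ derived ∧ appG wTop.reverse x < chevE6.nroots ∧
        appG wTop (appG wTop.reverse x) = x := by
  decide +kernel

end CfsgLib.PLocal.RadTw
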