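/-
Either the degree is large or a character of the long simple root occurs on a vector fixed by the other families.
-/
import Cfsg.Agent.Lib.PLocal.RadTw.TopData
import Cfsg.Agent.Lib.Lie.Twisted.E6Torus
import Cfsg.Agent.Lib.PLocal.Rad.Pos

set_option autoImplicit false
set_option linter.unusedSectionVars false

namespace CfsgLib.PLocal.RadTw

open Module CfsgLib.Lie.Chev CfsgLib.Lie.Chev.TwGroups CfsgLib.PLocal CfsgLib.PLocal.Triality
open Cfsg.Lie (chevE6)

variable {K : Type*} [Field K] [Fintype K] {q : ℕ} (hq : IsPrimePow q) (hK : Fintype.card K = q ^ 2)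

/-- the unit parameter -/
def oneP (r : Rt) : ↥(P hq hK r) := ⟨1, P_one hq hK⟩

theorem oneP_ne_zero (r : Rt) : oneP hq hK r ≠ 0 := fun e => one_ne_zero (α := K) (congrArg Subtype.val e)

/-- multiplication of the parameters of a fixed root -/
noncomputable def mulP {r : Rt} (t u : ↥(P hq hK r)) : ↥(P hq hK r) :=
  ⟨(t : K) * u, fun h => by rw [map_mul, t.2 h, u.2 h]⟩

theorem scaleData : (chevE6.cartan 3 46 = -1 ∧ chevE6.cartan 1 39 = -1 ∧ chevE6.cartan 1 71 = 1) ∧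
    (chevE6.simple 1 = 46 ∧ chevE6.simple 3 = 39 ∧ chevE6.neg 46 = 25 ∧ chevE6.neg 39 = 32) ∧
    1 < chevE6.rank ∧ 3 < chevE6.rank := by decide +kernel

/-- the torus scales the long families -/
theorem exists_scale {i : Rt} (hi : i = rz ∨ i = rx ∨ i = rx') {t : ↥(P hq hK i)} (ht : t ≠ 0) :
    ∃ h : ↥(Tg hq hK), (∀ u, h * Z hq hK i u * h⁻¹ = Z hq hK i (mulP hq hK t u)) ∧
      ∀ S : Set Rt, ∀ g, g ∈ SG hq hK S ↔ h * g * h⁻¹ ∈ SG hq hK S := by
  obtain ⟨⟨c3, c1, c1'⟩, ⟨s1, s3, n46, n39⟩, l1, l3⟩ := scaleData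
  have hb : bar i = i := by
    obtain ⟨⟨-, -, -, hz, -, hx, hx'⟩, -⟩ := topPairs
    rcases hi with rfl | rfl | rfl
    exacts [hz, hx, hx']
  have ht0 : (t : K) ≠ 0 := fun e => ht (Subtype.ext e)
  obtain ⟨j, hj, hj', hc⟩ : ∃ j : Fin chevE6.rank, chevE6.simple j ∈ [46, 39] ∧
      chevE6.simple j ∈ [Cfsg.Lie.e6p2, Cfsg.Lie.e6m2, Cfsg.Lie.e6p4, Cfsg.Lie.e6m4] ∧
      (chevE6.cartan j i = 1 ∨ chevE6.cartan j i = -1) := by
    rcases hi with rfl | rfl | rfl
    · exact ⟨⟨1, l1⟩, by simp [s1], by rw [s1]; decide, Or.inl c1'⟩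
    · exact ⟨⟨3, l3⟩, by simp [s3], by rw [s3]; decide, Or.inr c3⟩
    · exact ⟨⟨1, l1⟩, by simp [s1], by rw [s1]; decide, Or.inr c1⟩
  obtain ⟨c, hc0, hcq, hz⟩ : ∃ c : K, c ≠ 0 ∧ c ^ q = c ∧ c ^ chevE6.cartan j i = (t : K) := by
    have htq : (t : K) ^ q = t := by rw [← frE6_apply hq hK]; exact t.2 hb
    rcases hc with h | h <;> rw [h]
    · exact ⟨t, ht0, htq, zpow_one _⟩
    · exact ⟨(t : K)⁻¹, inv_ne_zero ht0, by rw [inv_pow, htq], by rw [zpow_neg_one, inv_inv]⟩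
  have hmem : (chevRel certE6 K).he (chevE6.simple j) c ∈ Tg hq hK := by
    show _ ∈ (Cfsg.Lie.twistedE6 K q).subgroupOf (chevE6.group K)
    refine he_single_mem hq hK hj' (r' := chevE6.neg (chevE6.simple j)) ?_ rfl hcq
    rcases List.mem_cons.1 hj with h | h
    · rw [h, n46]; decide
    · rw [List.mem_singleton.1 h, n39]; decide
  have hHS : (chevRel certE6 K).he (chevE6.simple j) c ∈ (chevRel certE6 K).HS :=
    (chevRel certE6 K).he_mem_HS j hc0
  refine ⟨⟨_, hmem⟩, fun u => Subtype.ext ?_, fun S g => ?_⟩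
  · show (chevRel certE6 K).he (chevE6.simple j) c * zval hq hK i u * ((chevRel certE6 K).he (chevE6.simple j) c)⁻¹ =
      zval hq hK i ((t : K) * u)
    rw [zval, zval, if_pos hb, if_pos hb, mul_one, mul_one]
    exact (Rad.he_conj (chevRel certE6 K) j hc0 i.2 (u : K)).trans (by rw [hz]; rfl)
  · exact Subgroup.mem_normalizer_iff.1 ((chevRel certE6 K).HS_le_normalizer_US S hHS) _

variable {V : Type*} [AddCommGroup V] [Module ℂ V] [FiniteDimensional ℂ V]
  (ρ : Representation ℂ ↥(Tg hq hK) V)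

/-- one character gives all of them -/
theorem hasVec_of_one {i : Rt} (hi : i = rx ∨ i = rx') {χ : AddChar ↥(P hq hK i) ℂ} (hχ : χ ≠ 0) {v : V}
    (hv : v ≠ 0) (hf : FixV ρ (SG hq hK (rest i)) v) (he : Eig ρ (Z hq hK i) χ v) : HasVec hq hK ρ i := by
  classical
  intro χ' hχ'
  have hb : bar i = i := by
    obtain ⟨⟨-, -, -, -, -, hx, hx'⟩, -⟩ := topPairs
    rcases hi with rfl | rfl
    exacts [hx, hx']
  let f : ↥(P hq hK i) → AddChar ↥(P hq hK i) ℂ := fun t => χ.compAddMonoidHom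
    (AddMonoidHom.mk' (mulP hq hK t) fun a b => Subtype.ext (mul_add (t : K) _ _))
  obtain ⟨t, ht⟩ := ((Fintype.bijective_iff_injective_and_card f).2 ⟨fun a b h => by
    by_contra hne
    refine hχ (DFunLike.ext _ _ fun w => ?_)
    have hne' : (a : K) - b ≠ 0 := sub_ne_zero.2 fun e => hne (Subtype.ext e)
    obtain ⟨u, hu⟩ : ∃ u : ↥(P hq hK i), (u : K) = (w : K) / ((a : K) - b) :=
      ⟨⟨_, fun h => by rw [map_div₀, map_sub, w.2 h, a.2 h, b.2 h]⟩, rfl⟩
    have e : mulP hq hK a u = w + mulP hq hK b u := Subtype.ext (by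
      show (a : K) * u = w + (b : K) * u
      rw [hu]; field_simp; ring)
    have := DFunLike.congr_fun h u
    change χ (mulP hq hK a u) = χ (mulP hq hK b u) at this
    rw [e, AddChar.map_add_eq_mul] at this
    rw [AddChar.zero_apply]
    exact (mul_eq_right₀ (AddChar.val_isUnit χ _).ne_zero).1 this,
    (AddChar.card_eq (α := ↥(P hq hK i))).symm⟩).2 χ'
  have ht0 : t ≠ 0 := by
    rintro rfl
    refine hχ' ?_
    rw [← ht]
    ext u
    show χ (mulP hq hK 0 u) = 1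
    rw [show mulP hq hK (0 : ↥(P hq hK i)) u = 0 from Subtype.ext (zero_mul _), AddChar.map_zero_eq_one]
  obtain ⟨h, hh, hS⟩ := exists_scale hq hK (Or.inr hi) ht0
  refine ⟨ρ h⁻¹ v, app_ne_zero ρ _ hv, fun g hg => ?_, fun u => ?_⟩
  · rw [← app, show g * h⁻¹ = h⁻¹ * (h * g * h⁻¹) by group, app, hf _ ((hS _ g).1 hg)]
  · rw [← app, show Z hq hK i u * h⁻¹ = h⁻¹ * (h * Z hq hK i u * h⁻¹) by group, hh, app, he, map_smul]
    exact congrArg (· • _) (DFunLike.congr_fun ht u)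

/-- the projection onto the vectors fixed by the listed families inside the range of `E` -/
noncomputable def fixL (E : Module.End ℂ V) : List Rt → Module.End ℂ V
  | [] => E
  | r :: l => proj ρ (Z hq hK r) 0 (fixL E l)

theorem fixL_spec {E : Module.End ℂ V} (hE : E * E = E) : ∀ l : List Rt,
    (∀ r ∈ l, ∀ t, Commute (ρ (Z hq hK r t)) E) → (∀ r ∈ l, ∀ s ∈ l, r = s ∨ CT r s []) →
      fixL hq hK ρ E l * fixL hq hK ρ E l = fixL hq hK ρ E l ∧ E * fixL hq hK ρ E l = fixL hq hK ρ E l ∧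
      (∀ g, Commute (ρ g) E → (∀ r ∈ l, ∀ t, Commute g (Z hq hK r t)) → Commute (ρ g) (fixL hq hK ρ E l)) ∧
      ∀ v, fixL hq hK ρ E l v = v ↔ E v = v ∧ ∀ r ∈ l, ∀ t, ρ (Z hq hK r t) v = v
  | [], _, _ => ⟨hE, hE, fun _ h _ => h, fun v => by simp [fixL]⟩
  | r :: l, h1, h2 => by
    obtain ⟨i1, i2, i3, i4⟩ := fixL_spec hE l (fun s hs => h1 s (List.mem_cons_of_mem _ hs))
      fun s hs s' hs' => h2 s (List.mem_cons_of_mem _ hs) s' (List.mem_cons_of_mem _ hs')
    have hc : ∀ t, Commute (ρ (Z hq hK r t)) (fixL hq hK ρ E l) := fun t =>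
      i3 _ (h1 r List.mem_cons_self t) fun s hs u => by
        rcases h2 r List.mem_cons_self s (List.mem_cons_of_mem _ hs) with rfl | h
        · show _ * _ = _ * _
          rw [← AddChar.map_add_eq_mul, ← AddChar.map_add_eq_mul, add_comm]
        · exact commute_of_CT hq hK h t u
    refine ⟨proj_idem ρ _ 0 i1 hc, ?_, fun g hg hg' => ?_, fun v => ?_⟩
    · rw [fixL, ← proj_left ρ _ 0 i1 hc, ← mul_assoc, i2]
    · exact proj_commute ρ _ 0 i1 hc fun a => ((hg' r List.mem_cons_self a).map ρ).mul_right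
        (i3 g hg fun s hs => hg' s (List.mem_cons_of_mem _ hs))
    · constructor
      · intro hv
        have hl : fixL hq hK ρ E l v = v := by
          conv_lhs => rw [← hv]
          rw [← Module.End.mul_apply, fixL, proj_left ρ _ 0 i1 hc]
          exact hv
        refine ⟨((i4 v).1 hl).1, fun s hs t => ?_⟩
        rcases List.mem_cons.1 hs with rfl | hs
        · rw [eigen_of_proj_apply ρ (Z hq hK s) 0 hv t, AddChar.zero_apply, one_smul]
        · exact ((i4 v).1 hl).2 s hs t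
      · rintro ⟨hv, hv'⟩
        refine proj_apply_of_eigen ρ _ 0 ((i4 v).2 ⟨hv, fun s hs => hv' s (List.mem_cons_of_mem _ hs)⟩) fun t => ?_
        rw [AddChar.zero_apply, one_smul]
        exact hv' r List.mem_cons_self t

/-- the top step -/
theorem top_alt (hne : ∃ t, ρ (Z hq hK rz t) ≠ 1) :
    2 * (q ^ 11 - q ^ 9) ≤ finrank ℂ V ∨
      (LinearMap.trace ℂ V (ρ (Z hq hK rz (oneP hq hK rz))) = (finrank ℂ V : ℂ) - (q : ℂ) ^ 11 ∧
        HasVec hq hK ρ rx) := by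
  classical
  obtain ⟨⟨hxy, hxz, hyz, hzf, hyf, hxf, -⟩, hnd, hexp, hpairs⟩ := topPairs
  obtain ⟨hw0, hwy, htarget⟩ := topTarget
  have hcard : ∀ r : Rt, bar r = r → Fintype.card ↥(P hq hK r) = q := fun r hr => by
    rw [← Nat.card_eq_fintype_card, card_P, if_pos hr]
  obtain ⟨q', hq'⟩ : ∃ q' : ℂ, (q : ℂ) = q' := ⟨_, rfl⟩
  have hq0 : q' ≠ 0 := by rw [← hq']; exact Nat.cast_ne_zero.2 hq.pos.ne'
  have hs0 : ∀ r : Rt, bar r = r → ∑ a : ↥(P hq hK r), (0 : AddChar ↥(P hq hK r) ℂ) a = q' := fun r hr => by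
    simp [hcard r hr, ← hq']
  obtain ⟨c, hc⟩ : ∃ c, c = LinearMap.trace ℂ V (ρ (Z hq hK rz (oneP hq hK rz))) := ⟨_, rfl⟩
  -- the traces of the long root elements
  have tz : ∀ t, t ≠ 0 → LinearMap.trace ℂ V (ρ (Z hq hK rz t) * 1) = c := fun t ht => by
    obtain ⟨h, hh, -⟩ := exists_scale hq hK (Or.inl rfl) ht
    have e := hh (oneP hq hK rz)
    rw [show mulP hq hK t (oneP hq hK rz) = t from Subtype.ext (mul_one (t : K))] at e
    rw [trace_conj ρ e (Commute.one_right _), mul_one, hc]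
  obtain ⟨n0, hn0, hn0'⟩ := exists_lift hq hK [0]
  obtain ⟨φ, hφ, hφ'⟩ := conj_Z hq hK hn0 (r := ry) (s := rz) (Fin.ext ((hn0' ry).trans hw0))
    (by rw [card_P, card_P, if_pos hyf, if_pos hzf])
  have ty : ∀ t, t ≠ 0 → LinearMap.trace ℂ V (ρ (Z hq hK ry t) * 1) = c := fun t ht => by
    rw [← trace_conj ρ (hφ' t) (Commute.one_right _)]
    exact tz _ fun e => ht (hφ.1 (e.trans (map_zero φ).symm))
  obtain ⟨E0, hE0⟩ : ∃ E0, E0 = proj ρ (Z hq hK rz) 0 (1 : Module.End ℂ V) := ⟨_, rfl⟩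
  have hE0i : E0 * E0 = E0 := hE0 ▸ proj_idem ρ _ 0 (one_mul 1) fun _ => Commute.one_right _
  have cE0 : ∀ r : Rt, CT r rz [] → ∀ t, Commute (ρ (Z hq hK r t)) E0 := fun r hr t =>
    hE0 ▸ proj_commute ρ _ 0 (one_mul 1) (fun _ => Commute.one_right _) fun a =>
      ((commute_of_CT hq hK hr t a).map ρ).mul_right (Commute.one_right _)
  have zE0 : ∀ u, ρ (Z hq hK rz u) * E0 = E0 := fun u => by
    rw [hE0, map_mul_proj, AddChar.zero_apply, one_smul]
  obtain ⟨β, exy, -, -, -, hsy⟩ := hxy.spec hq hK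
  have tye : ∀ a, a ≠ 0 → LinearMap.trace ℂ V (ρ (Z hq hK ry a) * E0) = c := by
    intro a ha
    have h : ∀ i, LinearMap.trace ℂ V (ρ (Z hq hK ry a) * ρ (Z hq hK rz i)) = c := by
      intro i
      obtain ⟨s, hs⟩ := hsy a ha i
      have e : (Z hq hK rx s)⁻¹ * Z hq hK ry a * ((Z hq hK rx s)⁻¹)⁻¹ = Z hq hK ry a * Z hq hK rz i := by
        rw [inv_inv, mul_assoc, exy, hs, mul_assoc, inv_mul_cancel_left]
      rw [← map_mul, ← mul_one (ρ _), trace_conj ρ e (Commute.one_right _), ty a ha]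
    rw [hE0, proj, mul_smul_comm, Finset.mul_sum, map_smul, map_sum]
    simp only [mul_one, AddChar.zero_apply, one_smul, h, Finset.sum_const, Finset.card_univ]
    rw [nsmul_eq_mul, smul_eq_mul, inv_mul_cancel_left₀ card_ne_zero']
  have cy : ∀ t, Commute (ρ (Z hq hK ry t)) E0 := cE0 _ hyz
  obtain ⟨χ, hχ⟩ : ∃ χ : AddChar ↥(P hq hK ry) ℂ, χ ≠ 0 := by
    have : Nontrivial (AddChar ↥(P hq hK ry) ℂ) :=
      Fintype.one_lt_card_iff_nontrivial.1 (by rw [AddChar.card_eq, hcard ry hyf]; exact hq.one_lt)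
    exact exists_ne 0
  obtain ⟨eY, heY⟩ : ∃ eY, eY = proj ρ (Z hq hK ry) χ E0 := ⟨_, rfl⟩
  have hYi : eY * eY = eY := heY ▸ proj_idem ρ _ χ hE0i cy
  have cY : ∀ r : Rt, CT r rz [] → CT r ry [] → ∀ t, Commute (ρ (Z hq hK r t)) eY := fun r h1 h2 t =>
    heY ▸ proj_commute ρ _ χ hE0i cy fun u => ((commute_of_CT hq hK h2 t u).map ρ).mul_right (cE0 r h1 t)
  have eigY : ∀ t, ρ (Z hq hK ry t) * eY = χ t • eY := fun t => heY ▸ map_mul_proj ρ (Z hq hK ry) χ E0 t
  have good : ∀ ps : List (Rt × Rt), (∀ p ∈ ps, p ∈ Mp) → _ := fun ps hps =>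
    fixL_spec hq hK ρ hYi (ps.map Prod.snd) (fun r hr => by
      obtain ⟨p, hp, rfl⟩ := List.mem_map.1 hr
      obtain ⟨-, -, -, z2, y2, -⟩ := hpairs p (hps p hp)
      exact cY _ z2 y2) fun r hr s hs => by
      obtain ⟨p, hp, rfl⟩ := List.mem_map.1 hr
      obtain ⟨p', hp', rfl⟩ := List.mem_map.1 hs
      rcases (hpairs p (hps p hp)).2.2.2.2.2 p' (hps p' hp') with rfl | h
      · exact Or.inl rfl
      · exact Or.inr h.2
  have peel : ∀ ps : List (Rt × Rt), (∀ p ∈ ps, p ∈ Mp) → (ps.map Prod.snd).Nodup →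
      q' ^ (ps.map fun p => if bar p.2 = p.2 then 1 else 2).sum *
        LinearMap.trace ℂ V (fixL hq hK ρ eY (ps.map Prod.snd)) = LinearMap.trace ℂ V eY := by
    intro ps
    induction ps with
    | nil => intro _ _; simp [fixL]
    | cons p ps ih =>
      intro hps hn
      have hp := hps p List.mem_cons_self
      have hps' : ∀ x ∈ ps, x ∈ Mp := fun x hx => hps x (List.mem_cons_of_mem _ hx)
      rw [List.map_cons] at hn
      obtain ⟨i1, i2, i3, -⟩ := good ps hps'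
      obtain ⟨hpair, az, ay, -, -, hoth⟩ := hpairs p hp
      obtain ⟨γ, eγ, -, -, -, hsur⟩ := hpair.spec hq hK
      obtain ⟨Q, hQ⟩ : ∃ Q, Q = fixL hq hK ρ eY (ps.map Prod.snd) := ⟨_, rfl⟩
      have hzero : ∀ s, s ≠ 0 → LinearMap.trace ℂ V (ρ (Z hq hK p.2 s) * Q) = 0 := by
        intro s hs
        obtain ⟨w, hw⟩ : ∃ w, χ w ≠ 1 := by
          by_contra h
          push Not at h
          exact hχ (DFunLike.ext _ _ fun a => by rw [h, AddChar.zero_apply])
        obtain ⟨t, ht⟩ := hsur s hs w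
        have e : (Z hq hK p.1 t)⁻¹ * Z hq hK p.2 s * ((Z hq hK p.1 t)⁻¹)⁻¹ =
            Z hq hK p.2 s * Z hq hK ry w := by
          rw [inv_inv, mul_assoc, eγ, ht, mul_assoc, inv_mul_cancel_left]
        have hcom : Commute (ρ (Z hq hK p.1 t)⁻¹) Q := by
          rw [← AddChar.map_neg_eq_inv, hQ]
          refine i3 _ (cY _ az ay _) fun r hr u => ?_
          obtain ⟨p', hp', rfl⟩ := List.mem_map.1 hr
          rcases hoth p' (hps' p' hp') with rfl | h
          · exact absurd hr (List.nodup_cons.1 hn).1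
          · exact commute_of_CT hq hK h.1 _ u
        have h := trace_conj ρ e hcom
        have hyQ : ρ (Z hq hK ry w) * Q = χ w • Q := by
          rw [hQ, ← i2, ← mul_assoc, eigY, smul_mul_assoc]
        rw [map_mul ρ (Z hq hK p.2 s), mul_assoc, hyQ, mul_smul_comm, map_smul, smul_eq_mul] at h
        by_contra h0
        exact hw ((mul_eq_right₀ (a := χ w) h0).1 h)
      have htp := trace_proj ρ (Z hq hK p.2) 0 (P := Q) rfl hzero
      simp only [AddChar.zero_apply, Finset.sum_const, Finset.card_univ, sub_zero, zero_mul, add_zero] at htp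
      rw [List.map_cons, List.sum_cons, List.map_cons, fixL, ← hQ]
      rw [← ih hps' (List.nodup_cons.1 hn).2, ← hQ, ← htp, pow_add, ← Nat.card_eq_fintype_card, card_P]
      split_ifs <;> push_cast [← hq'] <;> ring
  have peelM := peel Mp (fun _ h => h) hnd
  rw [hexp] at peelM
  obtain ⟨g1, -, -, g4⟩ := good Mp fun _ h => h
  obtain ⟨m, hm⟩ : ∃ m : ℕ, LinearMap.trace ℂ V (fixL hq hK ρ eY (Mp.map Prod.snd)) = m := ⟨_, trace_idem g1⟩
  obtain ⟨e, he⟩ : ∃ e : ℕ, LinearMap.trace ℂ V (proj ρ (Z hq hK ry) 0 E0) = e :=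
    ⟨_, trace_idem (proj_idem ρ _ 0 hE0i cy)⟩
  have a0 := trace_proj ρ (Z hq hK rz) 0 (P := (1 : Module.End ℂ V)) (LinearMap.trace_one ℂ V) tz
  have a1 := trace_proj ρ (Z hq hK ry) χ (P := E0) rfl tye
  have a2 := trace_proj ρ (Z hq hK ry) 0 (P := E0) rfl tye
  rw [hs0 rz hzf, hcard rz hzf, hq', ← hE0] at a0
  rw [AddChar.sum_eq_zero_iff_ne_zero.2 hχ, mul_zero, add_zero, hcard ry hyf, hq', ← heY, ← peelM, hm] at a1
  rw [hs0 ry hyf, he, hcard ry hyf, hq'] at a2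
  have hdim : (finrank ℂ V : ℂ) = e + (q' ^ 11 - q' ^ 9) * m := by
    apply mul_left_cancel₀ hq0
    linear_combination -q' * a0 - a2 - (q' ^ 2 - 1) * a1
  have hdimN : finrank ℂ V + q ^ 9 * m = e + q ^ 11 * m := by
    apply Nat.cast_injective (R := ℂ)
    push_cast
    rw [hdim, hq']
    ring
  have hm0 : m ≠ 0 := by
    rintro rfl
    rw [Nat.cast_zero, mul_zero, mul_zero] at a1
    have he0 : LinearMap.trace ℂ V E0 = finrank ℂ V := by linear_combination a0 + (q' - 1) * a1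
    obtain ⟨i, hi⟩ := hne
    have := zE0 i
    rw [eq_one_of_trace_eq hE0i he0, mul_one] at this
    exact hi this
  by_cases hm2 : 2 ≤ m
  · left
    obtain ⟨g, hg⟩ := Nat.exists_eq_add_of_le (Nat.pow_le_pow_right hq.pos (show 9 ≤ 11 by norm_num))
    rw [hg, Nat.add_sub_cancel_left]
    have := Nat.mul_le_mul_left g hm2
    rw [hg, add_mul] at hdimN
    omega
  obtain rfl : m = 1 := by omega
  right
  refine ⟨?_, ?_⟩
  · rw [← hc, hq']
    linear_combination a0 + q' * a1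
  -- the line
  have hr1 : finrank ℂ (LinearMap.range (fixL hq hK ρ eY (Mp.map Prod.snd))) = 1 := by
    have := (trace_idem g1).symm.trans hm
    exact_mod_cast this
  obtain ⟨⟨v, hvm⟩, hv0, hv1⟩ := finrank_eq_one_iff'.1 hr1
  have hv0' : v ≠ 0 := fun h => hv0 (Subtype.ext h)
  obtain ⟨hvY, hvM⟩ := (g4 v).1 (by obtain ⟨u, rfl⟩ := hvm; exact LinearMap.congr_fun g1 u)
  have hvz : ∀ u, ρ (Z hq hK rz u) v = v := fun u => by
    conv_lhs => rw [← hvY, heY, ← proj_left ρ (Z hq hK ry) χ hE0i cy]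
    rw [← Module.End.mul_apply, ← mul_assoc, zE0, proj_left ρ (Z hq hK ry) χ hE0i cy, ← heY, hvY]
  have hvy : ∀ t, ρ (Z hq hK ry t) v = χ t • v := fun t => eigen_of_proj_apply ρ (Z hq hK ry) χ (heY ▸ hvY) t
  have hknown : OrbFix hq hK ρ known v := by
    intro r hr g hg
    rcases List.mem_append.1 hr with hr | hr
    · rw [orb_of_mem_cl (k := rz) hr] at hg
      obtain ⟨u, rfl⟩ := exists_Z hq hK hg
      exact hvz u
    · obtain ⟨p, hp, hr⟩ := List.mem_flatMap.1 hr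
      rw [orb_of_mem_cl (k := p.2) hr] at hg
      obtain ⟨u, rfl⟩ := exists_Z hq hK hg
      exact hvM p.2 (List.mem_map_of_mem hp) u
  have huniv : ∀ fx : List ℕ, OrbFix hq hK ρ fx v → ∀ r : Rt, (∀ m ∈ topRoots, Ok fx r m) → ∀ t,
      ∃ c : ℂ, ρ (Z hq hK r t) v = c • v := by
    intro fx hfx r hok t
    have hz : E0 (ρ (Z hq hK r t) v) = ρ (Z hq hK r t) v := by
      rw [hE0]
      refine proj_apply_of_eigen ρ _ 0 (Module.End.one_apply _) fun u => ?_
      rw [Ok.move hq hK ρ (m := rz) (hok _ List.mem_cons_self) hfx t u, hvz, AddChar.zero_apply, one_smul]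
    have hu : fixL hq hK ρ eY (Mp.map Prod.snd) (ρ (Z hq hK r t) v) = ρ (Z hq hK r t) v := by
      refine (g4 _).2 ⟨?_, fun μ hμ u => ?_⟩
      · rw [heY]
        refine proj_apply_of_eigen ρ _ χ hz fun u => ?_
        rw [Ok.move hq hK ρ (m := ry) (hok _ (List.mem_cons_of_mem _ List.mem_cons_self)) hfx t u, hvy, map_smul]
      · obtain ⟨p, hp, rfl⟩ := List.mem_map.1 hμ
        rw [Ok.move hq hK ρ (m := p.2) (hok _ (List.mem_cons_of_mem _ (List.mem_cons_of_mem _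
          (List.mem_map_of_mem hp)))) hfx t u, hvM p.2 (List.mem_map_of_mem hp)]
    obtain ⟨c, hc⟩ := hv1 ⟨ρ (Z hq hK r t) v, ρ (Z hq hK r t) v, hu⟩
    exact ⟨c, (congrArg Subtype.val hc).symm⟩
  have hfix : OrbFix hq hK ρ derived v := by
    unfold derived
    cases hr : run topRoots script known [] with
    | none => exact fun _ h => absurd h List.not_mem_nil
    | some res =>
      exact run_sound hq hK ρ topRoots hv0' huniv script known [] res hr hknown fun _ h => absurd h List.not_mem_nil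
  obtain ⟨n, hn, hn'⟩ := exists_lift hq hK wTop
  obtain ⟨ψ, hψ, hψ'⟩ := conj_Z hq hK hn (r := ry) (s := rx) (Fin.ext ((hn' ry).trans hwy))
    (by rw [card_P, card_P, if_pos hyf, if_pos hxf])
  let ψe := AddEquiv.ofBijective ψ hψ
  have hχ' : χ.compAddMonoidHom ψe.symm.toAddMonoidHom ≠ 0 := fun e => hχ (DFunLike.ext _ _ fun a => by
    have h2 := DFunLike.congr_fun e (ψe a)
    rw [AddChar.compAddMonoidHom_apply, AddEquiv.coe_toAddMonoidHom, AddEquiv.symm_apply_apply,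
      AddChar.zero_apply] at h2
    rw [h2, AddChar.zero_apply])
  refine hasVec_of_one hq hK ρ (Or.inl rfl) hχ' (app_ne_zero ρ (⟨n, hn⟩ : ↥(Tg hq hK)) hv0') (fun g hg => ?_)
    fun t => ?_
  · have hle : CG hq hK (rest 46) ≤ Rad.vStab ρ (ρ (⟨n, hn⟩ : ↥(Tg hq hK)) v) := by
      refine CG_le hq hK fun r hr g hg => ?_
      obtain ⟨h1, h2⟩ := hr (Set.mem_insert r _)
      obtain ⟨b1, b2, b3⟩ := htarget r (List.mem_range'_1.2 ⟨h1, by omega⟩) h2
      have hinv : (↑(n⁻¹ : (chevRel certE6 K).NS) : ↥(chevE6.group K)) ∈ Tg hq hK := by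
        rw [Subgroup.coe_inv]; exact inv_mem hn
      have hperm : (chevRel certE6 K).nsPerm n⁻¹ r = ⟨_, b2⟩ := by
        rw [map_inv]
        exact Equiv.Perm.inv_eq_iff_eq.2 (Fin.ext ((hn' ⟨_, b2⟩).trans b3).symm)
      have := conj_orb hq hK hinv hg
      rw [hperm] at this
      show ρ g (ρ (⟨n, hn⟩ : ↥(Tg hq hK)) v) = ρ (⟨n, hn⟩ : ↥(Tg hq hK)) v
      rw [← app, show g * (⟨n, hn⟩ : ↥(Tg hq hK)) = (⟨n, hn⟩ : ↥(Tg hq hK)) *
        ((⟨n, hn⟩ : ↥(Tg hq hK))⁻¹ * g * (⟨n, hn⟩ : ↥(Tg hq hK))) by group, app,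
        hfix ⟨_, b2⟩ b1 _ (by rwa [show (⟨n, hn⟩ : ↥(Tg hq hK))⁻¹ * g * (⟨n, hn⟩ : ↥(Tg hq hK)) =
          (⟨_, hinv⟩ : ↥(Tg hq hK)) * g * (⟨_, hinv⟩ : ↥(Tg hq hK))⁻¹ from Subtype.ext (by simp)])]
    exact hle (rest_mem_CG hq hK (i := rx) List.mem_cons_self hg)
  · obtain ⟨u, rfl⟩ := ψe.surjective t
    rw [show ψe u = ψ u from rfl, ← hψ' u, ← app, inv_mul_cancel_right, app, hvy, map_smul,
      AddChar.compAddMonoidHom_apply, AddEquiv.coe_toAddMonoidHom,
      show ψ u = ψe u from rfl, AddEquiv.symm_apply_apply]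

end CfsgLib.PLocal.RadTw
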