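/-
The characters of one long simple root give those of the other.
-/
import Cfsg.Agent.Lib.PLocal.RadTw.Top

set_option autoImplicit false
set_option linter.unusedSectionVars false

namespace CfsgLib.PLocal.RadTw

open Module CfsgLib.Lie.Chev CfsgLib.Lie.Chev.TwGroups CfsgLib.PLocal CfsgLib.PLocal.Triality
open Cfsg.Lie (chevE6)

/-- the sum of the two long simple roots -/
def rk : Rt := ⟨47, by decide +kernel⟩
/-- the negative of the first long simple root -/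
def nx : Rt := ⟨25, by decide +kernel⟩
/-- the negative of the second long simple root -/
def nx' : Rt := ⟨32, by decide +kernel⟩

/-- positive roots outside the list -/
def outL (l : List ℕ) : List ℕ :=
  (List.range' (half chevE6) (chevE6.nroots - half chevE6)).filter fun r => decide (r ∉ l)

theorem mem_outL {l : List ℕ} {r : ℕ} : r ∈ outL l ↔ half chevE6 ≤ r ∧ r < chevE6.nroots ∧ r ∉ l := by
  simp only [outL, List.mem_filter, List.mem_range'_1, decide_eq_true_iff]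
  have : half chevE6 ≤ chevE6.nroots := by decide +kernel
  constructor
  · rintro ⟨⟨h1, h2⟩, h3⟩; exact ⟨h1, by omega, h3⟩
  · rintro ⟨h1, h2, h3⟩; exact ⟨⟨h1, by omega⟩, h3⟩

theorem lset_outL (i : ℕ) : lset (outL [i]) = rest i := by
  ext r
  simp only [lset, rest, Set.mem_setOf_eq, mem_outL, List.mem_singleton]
  exact ⟨fun h => ⟨h.1, h.2.2⟩, fun h => ⟨h.1, r.2, h.2⟩⟩

theorem transData :
    (Pair rx rx' rk ∧ Pair rx' rx rk ∧ Pair nx rk rx' ∧ Pair nx' rk rx ∧ CT rx rk [] ∧ CT rx' rk [] ∧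
      CT rx' rx [rk.1] ∧ bar rk = rk) ∧
    (∀ c ∈ [46, 39, 47, 25, 32], Nm c (outL [39, 46, 47])) ∧
    Nm 46 (outL [46]) ∧ Nm 39 (outL [39]) := by decide +kernel

variable {K : Type*} [Field K] [Fintype K] {q : ℕ} (hq : IsPrimePow q) (hK : Fintype.card K = q ^ 2)
variable {V : Type*} [AddCommGroup V] [Module ℂ V] [FiniteDimensional ℂ V]
  (ρ : Representation ℂ ↥(Tg hq hK) V)

/-- one side: all non-trivial elements of the two families have the same trace -/
theorem trace_side {a a' b k : Rt} (hab : Pair a b k) (hk : Pair a' k b) (hbk : CT b k [])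
    {Q : Module.End ℂ V} (hQa : ∀ t, Commute (ρ (Z hq hK a t)) Q) (hQn : ∀ t, Commute (ρ (Z hq hK a' t)) Q)
    (s : ↥(P hq hK b)) (u : ↥(P hq hK k)) (h : s ≠ 0 ∨ u ≠ 0) :
    LinearMap.trace ℂ V (ρ (Z hq hK b s * Z hq hK k u) * Q) =
      LinearMap.trace ℂ V (ρ (Z hq hK k (oneP hq hK k)) * Q) := by
  obtain ⟨β, e, -, -, -, hs⟩ := hab.spec hq hK
  obtain ⟨δ, e', -, -, -, hs'⟩ := hk.spec hq hK
  have cinv : ∀ {c : Rt}, (∀ t, Commute (ρ (Z hq hK c t)) Q) → ∀ t, Commute (ρ (Z hq hK c t)⁻¹) Q :=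
    fun h t => by rw [← AddChar.map_neg_eq_inv]; exact h _
  have h1 : ∀ u, u ≠ 0 → ∀ s, LinearMap.trace ℂ V (ρ (Z hq hK k u * Z hq hK b s) * Q) =
      LinearMap.trace ℂ V (ρ (Z hq hK k u) * Q) := fun u hu s => by
    obtain ⟨t, ht⟩ := hs' u hu s
    refine trace_conj ρ (g := (Z hq hK a' t)⁻¹) ?_ (cinv hQn t)
    rw [inv_inv, mul_assoc, e', ht, mul_assoc, inv_mul_cancel_left]
  have h2 : ∀ s, s ≠ 0 → ∀ u, LinearMap.trace ℂ V (ρ (Z hq hK b s * Z hq hK k u) * Q) =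
      LinearMap.trace ℂ V (ρ (Z hq hK b s) * Q) := fun s hs' u => by
    obtain ⟨t, ht⟩ := hs s hs' u
    refine trace_conj ρ (g := (Z hq hK a t)⁻¹) ?_ (cinv hQa t)
    rw [inv_inv, mul_assoc, e, ht, mul_assoc, inv_mul_cancel_left]
  have hcomm : ∀ s u, Z hq hK b s * Z hq hK k u = Z hq hK k u * Z hq hK b s := fun s u =>
    (commute_of_CT hq hK hbk s u).eq
  have hk1 : ∀ u, u ≠ 0 → LinearMap.trace ℂ V (ρ (Z hq hK k u) * Q) =
      LinearMap.trace ℂ V (ρ (Z hq hK b (oneP hq hK b)) * Q) := fun u hu => by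
    rw [← h2 _ (oneP_ne_zero hq hK b) u, hcomm, h1 u hu]
  rcases eq_or_ne u 0 with rfl | hu
  · have hs : s ≠ 0 := h.resolve_right fun h => h rfl
    rw [AddChar.map_zero_eq_one, mul_one, ← h2 s hs (oneP hq hK k), hcomm, h1 _ (oneP_ne_zero hq hK k)]
  · rw [hcomm, h1 u hu, hk1 u hu, hk1 _ (oneP_ne_zero hq hK k)]

theorem trace_fix_two {b k : Rt} (Q : Module.End ℂ V) {c : ℂ}
    (h : ∀ s u, s ≠ 0 ∨ u ≠ 0 → LinearMap.trace ℂ V (ρ (Z hq hK b s * Z hq hK k u) * Q) = c) :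
    (Fintype.card ↥(P hq hK b) : ℂ) * ((Fintype.card ↥(P hq hK k) : ℂ) *
      LinearMap.trace ℂ V (proj ρ (Z hq hK b) 0 (proj ρ (Z hq hK k) 0 Q))) =
      LinearMap.trace ℂ V Q +
        ((Fintype.card ↥(P hq hK b) : ℂ) * (Fintype.card ↥(P hq hK k) : ℂ) - 1) * c := by
  classical
  have key : ∀ p : ↥(P hq hK b) × ↥(P hq hK k), LinearMap.trace ℂ V (ρ (Z hq hK b p.1 * Z hq hK k p.2) * Q) =
      c + if p = 0 then LinearMap.trace ℂ V Q - c else 0 := fun p => by
    split_ifs with hp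
    · subst hp
      simp [AddChar.map_zero_eq_one]
    · rw [add_zero]
      exact h _ _ (not_and_or.1 fun hh => hp (Prod.ext hh.1 hh.2))
  have hsum : ∑ s, ∑ u, LinearMap.trace ℂ V (ρ (Z hq hK b s * Z hq hK k u) * Q) = LinearMap.trace ℂ V Q +
      ((Fintype.card ↥(P hq hK b) : ℂ) * (Fintype.card ↥(P hq hK k) : ℂ) - 1) * c := by
    rw [← Fintype.sum_prod_type', Finset.sum_congr rfl fun p _ => key p, Finset.sum_add_distrib, Finset.sum_const,
      Finset.sum_ite_eq', if_pos (Finset.mem_univ _), Finset.card_univ, Fintype.card_prod, nsmul_eq_mul,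
      Nat.cast_mul]
    ring
  rw [← hsum]
  have hb : (Fintype.card ↥(P hq hK b) : ℂ) ≠ 0 := card_ne_zero'
  have hk : (Fintype.card ↥(P hq hK k) : ℂ) ≠ 0 := card_ne_zero'
  simp only [proj, AddChar.zero_apply, one_smul, map_smul, map_sum, smul_eq_mul, mul_smul_comm, Finset.mul_sum,
    ← mul_assoc, ← map_mul]
  refine Finset.sum_congr rfl fun s _ => Finset.sum_congr rfl fun u _ => ?_
  field_simp

/-- vectors fixed by the positive families outside one long simple root -/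
theorem fix_rest_iff {a b k : Rt} (ha : (a : ℕ) ∈ [46, 39]) (hl : ∀ x, x ∈ [(a : ℕ), (b : ℕ), (k : ℕ)] ↔ x ∈ [39, 46, 47])
    (hba : b ≠ a) (hka : k ≠ a) (hbar : bar b = b ∧ bar k = k) (hpos : half chevE6 ≤ (b : ℕ) ∧ half chevE6 ≤ (k : ℕ))
    (v : V) : FixV ρ (SG hq hK (lset (outL [a]))) v ↔
      FixV ρ (SG hq hK (lset (outL [39, 46, 47]))) v ∧ (∀ t, ρ (Z hq hK b t) v = v) ∧
        ∀ t, ρ (Z hq hK k t) v = v := by
  have horb : ∀ c : Rt, bar c = c → c ≠ a → half chevE6 ≤ (c : ℕ) → orb c ⊆ lset (outL [a]) := by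
    intro c hc hca hp x hx
    have : x = c := by
      rcases hx with rfl | rfl
      · rfl
      · exact Fin.ext hc
    subst this
    exact mem_outL.2 ⟨hp, x.2, fun h => hca (Fin.ext (List.mem_singleton.1 h))⟩
  constructor
  · intro h
    refine ⟨h.mono ρ (SG_mono hq hK fun x hx => ?_),
      fun t => h _ (Z_mem_SG hq hK (horb b hbar.1 hba hpos.1) t),
      fun t => h _ (Z_mem_SG hq hK (horb k hbar.2 hka hpos.2) t)⟩
    obtain ⟨h1, h2, h3⟩ := mem_outL.1 hx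
    exact mem_outL.2 ⟨h1, h2, fun e => h3 ((hl _).1 (by rw [List.mem_singleton.1 e]; exact List.mem_cons_self))⟩
  · rintro ⟨h, hb, hk⟩
    rw [lset_outL]
    have hle : CG hq hK (rest a) ≤ Rad.vStab ρ v := by
      refine CG_le hq hK fun r hr g hg => ?_
      obtain ⟨t, rfl⟩ := exists_Z hq hK hg
      by_cases hrb : r = b
      · subst hrb; exact hb t
      by_cases hrk : r = k
      · subst hrk; exact hk t
      have hmem : ∀ x ∈ orb r, (x : ℕ) ≠ b ∧ (x : ℕ) ≠ k := by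
        rintro x (rfl | rfl)
        · exact ⟨fun e => hrb (Fin.ext e), fun e => hrk (Fin.ext e)⟩
        · refine ⟨fun e => hrb ?_, fun e => hrk ?_⟩ <;>
            have e' := congrArg barF (Fin.ext e : barF r = _) <;> rw [barF_barF] at e' <;> rw [e']
          · exact Fin.ext hbar.1
          · exact Fin.ext hbar.2
      refine h _ (Z_mem_SG hq hK (fun x hx => ?_) t)
      obtain ⟨h1, h2⟩ := hr hx
      refine mem_outL.2 ⟨h1, x.2, fun e => ?_⟩
      have := (hl _).2 e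
      simp only [List.mem_cons, List.not_mem_nil, or_false] at this
      rcases this with e | e | e
      · exact h2 e
      · exact (hmem x hx).1 e
      · exact (hmem x hx).2 e
    exact fun g hg => hle (rest_mem_CG hq hK ha hg)

/-- the transfer -/
theorem transfer (h : HasVec hq hK ρ rx) : HasVec hq hK ρ rx' := by
  classical
  obtain ⟨⟨oij, oji, oni, onj, ta, tb, -, hkf⟩, hN, hNa, hNb⟩ := transData
  obtain ⟨⟨-, -, -, -, -, hxf, hxf'⟩, -⟩ := topPairs
  obtain ⟨Q, hQ⟩ : ∃ Q, Q = fixP ρ (SG hq hK (lset (outL [39, 46, 47]))) := ⟨_, rfl⟩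
  have hQi : Q * Q = Q := hQ ▸ fixP_idem ρ _
  have cQ : ∀ r : Rt, (r : ℕ) ∈ [46, 39, 47, 25, 32] → ∀ t, Commute (ρ (Z hq hK r t)) Q := fun r hr t =>
    hQ ▸ fixP_commute ρ (Z_normalizer hq hK (hN r hr) t)
  have ck : ∀ r : Rt, CT r rk [] → (∀ t, Commute (ρ (Z hq hK r t)) Q) →
      ∀ t, Commute (ρ (Z hq hK r t)) (proj ρ (Z hq hK rk) 0 Q) := fun r hr hc t =>
    proj_commute ρ _ 0 hQi (cQ rk (by decide)) fun a => ((commute_of_CT hq hK hr t a).map ρ).mul_right (hc t)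
  obtain ⟨Pk, hPk⟩ : ∃ Pk, Pk = proj ρ (Z hq hK rk) 0 Q := ⟨_, rfl⟩
  have hPki : Pk * Pk = Pk := hPk ▸ proj_idem ρ _ 0 hQi (cQ rk (by decide))
  obtain ⟨A, hA⟩ : ∃ A, A = fixP ρ (SG hq hK (lset (outL [(rx : ℕ)]))) := ⟨_, rfl⟩
  obtain ⟨B, hB⟩ : ∃ B, B = fixP ρ (SG hq hK (lset (outL [(rx' : ℕ)]))) := ⟨_, rfl⟩
  have hAi : A * A = A := hA ▸ fixP_idem ρ _
  have hBi : B * B = B := hB ▸ fixP_idem ρ _
  have cA : ∀ t, Commute (ρ (Z hq hK rx t)) A := fun t => hA ▸ fixP_commute ρ (Z_normalizer hq hK hNa t)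
  have cB : ∀ t, Commute (ρ (Z hq hK rx' t)) B := fun t => hB ▸ fixP_commute ρ (Z_normalizer hq hK hNb t)
  have fixk : ∀ v, Pk v = v ↔ FixV ρ (SG hq hK (lset (outL [39, 46, 47]))) v ∧ ∀ t, ρ (Z hq hK rk t) v = v := by
    intro v
    rw [hPk]
    constructor
    · intro hv
      refine ⟨(fixP_apply_iff ρ _ v).1 ?_, fun t => by
        rw [eigen_of_proj_apply ρ _ 0 hv t, AddChar.zero_apply, one_smul]⟩
      rw [← hQ]
      conv_lhs => rw [← hv]
      rw [← Module.End.mul_apply, proj_left ρ _ 0 hQi (cQ rk (by decide)), hv]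
    · rintro ⟨h1, h2⟩
      refine proj_apply_of_eigen ρ _ 0 (by rw [hQ]; exact (fixP_apply_iff ρ _ v).2 h1) fun t => ?_
      rw [AddChar.zero_apply, one_smul, h2 t]
  have fixb : ∀ (r : Rt) (E : Module.End ℂ V), E * E = E → (∀ t, Commute (ρ (Z hq hK r t)) E) → ∀ v,
      proj ρ (Z hq hK r) 0 E v = v ↔ E v = v ∧ ∀ t, ρ (Z hq hK r t) v = v := by
    intro r E hE hc v
    constructor
    · intro hv
      refine ⟨?_, fun t => by rw [eigen_of_proj_apply ρ _ 0 hv t, AddChar.zero_apply, one_smul]⟩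
      conv_lhs => rw [← hv]
      rw [← Module.End.mul_apply, proj_left ρ _ 0 hE hc, hv]
    · rintro ⟨h1, h2⟩
      exact proj_apply_of_eigen ρ _ 0 h1 fun t => by rw [AddChar.zero_apply, one_smul, h2 t]
  have ckb : ∀ t, Commute (ρ (Z hq hK rx' t)) Pk := hPk ▸ ck rx' tb (cQ rx' (by decide))
  have cka : ∀ t, Commute (ρ (Z hq hK rx t)) Pk := hPk ▸ ck rx ta (cQ rx (by decide))
  have fA := fix_rest_iff hq hK ρ (a := rx) (b := rx') (k := rk) (by decide)
    (fun x => by simp only [rx, rx', rk, List.mem_cons, List.not_mem_nil, or_false]; omega)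
    (by decide) (by decide) ⟨hxf', hkf⟩ (by decide +kernel)
  have fB := fix_rest_iff hq hK ρ (a := rx') (b := rx) (k := rk) (by decide)
    (fun x => by simp only [rx, rx', rk, List.mem_cons, List.not_mem_nil, or_false])
    (by decide) (by decide) ⟨hxf, hkf⟩ (by decide +kernel)
  have iA : ∀ v, A v = v ↔ Pk v = v ∧ ∀ t, ρ (Z hq hK rx' t) v = v := fun v => by
    rw [hA, fixP_apply_iff, fA, fixk]; tauto
  have iB : ∀ v, B v = v ↔ Pk v = v ∧ ∀ t, ρ (Z hq hK rx t) v = v := fun v => by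
    rw [hB, fixP_apply_iff, fB, fixk]; tauto
  -- equal dimensions
  have hcard : ∀ r : Rt, bar r = r → (Fintype.card ↥(P hq hK r) : ℂ) = q := fun r hr => by
    rw [← Nat.card_eq_fintype_card, card_P, if_pos hr]
  have hAB : LinearMap.trace ℂ V A = LinearMap.trace ℂ V B := by
    rw [trace_congr hAi (proj_idem ρ (Z hq hK rx') 0 hPki ckb) (fun v => by rw [iA, fixb rx' Pk hPki ckb]),
      trace_congr hBi (proj_idem ρ (Z hq hK rx) 0 hPki cka) (fun v => by rw [iB, fixb rx Pk hPki cka])]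
    have t1 := trace_fix_two hq hK ρ Q
      (trace_side hq hK ρ oij oni tb (cQ rx (by decide)) (cQ nx (by decide)))
    have t2 := trace_fix_two hq hK ρ Q
      (trace_side hq hK ρ oji onj ta (cQ rx' (by decide)) (cQ nx' (by decide)))
    rw [← hPk, hcard _ hxf', hcard _ hkf] at t1
    rw [← hPk, hcard _ hxf, hcard _ hkf] at t2
    have hq0 : (q : ℂ) ≠ 0 := Nat.cast_ne_zero.2 hq.pos.ne'
    exact mul_left_cancel₀ hq0 (mul_left_cancel₀ hq0 (t1.trans t2.symm))
  have hU : LinearMap.trace ℂ V (proj ρ (Z hq hK rx) 0 A) = LinearMap.trace ℂ V (proj ρ (Z hq hK rx') 0 B) :=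
    trace_congr (proj_idem ρ _ 0 hAi cA) (proj_idem ρ _ 0 hBi cB) fun v => by
      rw [fixb rx A hAi cA, fixb rx' B hBi cB, iA, iB]; tauto
  obtain ⟨χ0, hχ0⟩ : ∃ χ : AddChar ↥(P hq hK rx) ℂ, χ ≠ 0 := by
    have : Nontrivial (AddChar ↥(P hq hK rx) ℂ) := Fintype.one_lt_card_iff_nontrivial.1 (by
      rw [AddChar.card_eq, ← Nat.card_eq_fintype_card, card_P, if_pos hxf]; exact hq.one_lt)
    exact exists_ne 0
  by_contra hno
  have hzero : ∀ χ : AddChar ↥(P hq hK rx') ℂ, χ ≠ 0 →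
      LinearMap.trace ℂ V (proj ρ (Z hq hK rx') χ B) = 0 := by
    intro χ hχ
    by_contra hne
    have hi := proj_idem ρ (Z hq hK rx') χ hBi cB
    obtain ⟨w, hw⟩ : ∃ w, proj ρ (Z hq hK rx') χ B w ≠ 0 := by
      by_contra hall
      push Not at hall
      exact hne (by rw [show proj ρ (Z hq hK rx') χ B = 0 from LinearMap.ext hall, map_zero])
    have hv : proj ρ (Z hq hK rx') χ B (proj ρ (Z hq hK rx') χ B w) = proj ρ (Z hq hK rx') χ B w :=
      LinearMap.congr_fun hi w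
    refine hno (hasVec_of_one hq hK ρ (Or.inr rfl) hχ hw ?_ (eigen_of_proj_apply ρ _ χ hv))
    rw [← lset_outL, ← fixP_apply_iff, ← hB, ← Module.End.mul_apply, proj_left ρ _ χ hBi cB]
  have sB : LinearMap.trace ℂ V (proj ρ (Z hq hK rx') 0 B) = LinearMap.trace ℂ V B := by
    conv_rhs => rw [← sum_proj ρ (Z hq hK rx') (P := B), map_sum]
    rw [Finset.sum_eq_single 0 (fun χ _ hχ => hzero χ hχ) fun h => absurd (Finset.mem_univ _) h]
  obtain ⟨v, hv, hf, he⟩ := h χ0 hχ0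
  have sA : LinearMap.trace ℂ V A = LinearMap.trace ℂ V (proj ρ (Z hq hK rx) 0 A) +
      ∑ χ ∈ Finset.univ.erase (0 : AddChar ↥(P hq hK rx) ℂ), LinearMap.trace ℂ V (proj ρ (Z hq hK rx) χ A) := by
    conv_lhs => rw [← sum_proj ρ (Z hq hK rx) (P := A), map_sum]
    exact (Finset.add_sum_erase _ _ (Finset.mem_univ _)).symm
  rw [hAB, ← sB, ← hU, eq_comm, add_eq_left] at sA
  choose n hn using fun χ => (⟨_, trace_idem (proj_idem ρ (Z hq hK rx) χ hAi cA)⟩ :
    ∃ n : ℕ, LinearMap.trace ℂ V (proj ρ (Z hq hK rx) χ A) = n)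
  simp only [hn] at sA
  rw [← Nat.cast_sum, Nat.cast_eq_zero, Finset.sum_eq_zero_iff] at sA
  have h0 := sA χ0 (Finset.mem_erase.2 ⟨hχ0, Finset.mem_univ _⟩)
  have := one_le_of_fixed (proj_idem ρ (Z hq hK rx) χ0 hAi cA) (hn χ0)
    (proj_apply_of_eigen ρ _ χ0 (by rw [hA, fixP_apply_iff, lset_outL]; exact hf) he) hv
  omega

end CfsgLib.PLocal.RadTw
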