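/-
The degree bound for the twisted type E6.
-/
import Cfsg.Agent.Lib.PLocal.RadTw.Transfer
import Cfsg.Agent.Lib.PLocal.RadTw.Count
import Cfsg.Agent.Lib.PLocal.RadTw.Data
import Cfsg.Agent.Lib.PLocal.RadTw.Excl

set_option autoImplicit false
set_option linter.unusedSectionVars false

namespace CfsgLib.PLocal.RadTw

open Module CfsgLib.Lie.Chev CfsgLib.Lie.Chev.TwGroups CfsgLib.PLocal CfsgLib.PLocal.Triality

theorem sum_cells {q : ℕ} (hq : 2 ≤ q) : (cells.map fun C => (q - 1) * q ^ C.dim).sum + 2 = bT q := by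
  rw [show (cells.map fun C => (q - 1) * q ^ C.dim) = (cells.map Cell.dim).map fun n => (q - 1) * q ^ n from
    (List.map_map ..).symm, cells_dims]
  apply Nat.cast_injective (R := ℤ)
  rw [← horner_bT (show 1 ≤ q by omega)]
  simp only [List.map_cons, List.map_nil, List.sum_cons, List.sum_nil, horner, bTPoly]
  push_cast [Nat.cast_sub (show 1 ≤ q by omega)]
  ring

theorem bT_le {q : ℕ} (hq : 2 ≤ q) : bT q ≤ 2 * (q ^ 11 - q ^ 9) := by
  have h3 : q ^ 3 ≤ q ^ 6 := Nat.pow_le_pow_right (by omega) (by norm_num)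
  have h6 : q ^ 6 - q ^ 3 + 1 ≤ q ^ 6 := by
    have : 1 ≤ q ^ 3 := Nat.one_le_pow _ _ (by omega)
    omega
  have h1 : bT q ≤ q ^ 11 + q ^ 7 :=
    calc bT q ≤ q * q ^ 6 * (q ^ 4 + 1) := Nat.mul_le_mul_right _ (Nat.mul_le_mul_left _ h6)
      _ = q ^ 11 + q ^ 7 := by ring
  have h11 : 4 * q ^ 9 ≤ q ^ 11 := by
    rw [show (11 : ℕ) = 9 + 2 from rfl, pow_add q 9 2, mul_comm 4]
    exact Nat.mul_le_mul_left _ (Nat.pow_le_pow_left hq 2)
  have h7 : q ^ 7 ≤ q ^ 9 := Nat.pow_le_pow_right (by omega) (by norm_num)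
  omega

variable {K : Type*} [Field K] [Fintype K] {q : ℕ} (hq : IsPrimePow q) (hK : Fintype.card K = q ^ 2)
variable {V : Type*} [AddCommGroup V] [Module ℂ V] [FiniteDimensional ℂ V]
  (ρ : Representation ℂ ↥(Tg hq hK) V)

/-- a representation moving a long root element has degree at least the bound, up to two -/
theorem bound_two (hne : ∃ t, ρ (Z hq hK rz t) ≠ 1) : bT q ≤ finrank ℂ V + 2 := by
  rcases top_alt hq hK ρ hne with h | ⟨-, h⟩
  · exact le_trans ((bT_le hq.two_le).trans h) (Nat.le_add_right _ _)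
  obtain ⟨e, he⟩ : ∃ e : ℕ, LinearMap.trace ℂ V (fixP ρ (SG hq hK (lset (upto 0)))) = e :=
    ⟨_, trace_idem (fixP_idem ρ _)⟩
  have := count_le hq hK ρ h (transfer hq hK ρ h) cells cells_sorted cellsOK 0 (fun C _ => Nat.zero_le _) e he
  have := sum_cells hq.two_le
  omega

end CfsgLib.PLocal.RadTw
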